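import Mathlib
import Cfsg.Prelude.Def_AxialAlgebras

/-!
# Sakuma's theorem (S5544): basic definitions

`Amb mul B`: commutative product, symmetric associating form (no positivity).
`MAxis mul B μ a`: a unit-norm Majorana axis `a` with its involution `μ`, in the "decomposition" form
that is all the computation needs.  `sig`, `Wv` and the polynomials `pC qC nval kval lam5 lam6 F1`.
-/

set_option autoImplicit false

noncomputable section

namespace Cfsg.Agent.Lib.H10.Sak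

variable {V : Type*} [AddCommGroup V] [Module ℝ V]

/-- commutative product, symmetric and associating form -/
structure Amb (mul : V →ₗ[ℝ] V →ₗ[ℝ] V) (B : LinearMap.BilinForm ℝ V) : Prop where
  comm : ∀ u v : V, mul u v = mul v u
  symm : ∀ u v : V, B u v = B v u
  assoc : ∀ u v w : V, B u (mul v w) = B (mul u v) w

/-- a unit-norm Majorana axis `a` with involution `μ`; `decomp` gives, for each `b`, its components
`b₀ b₄ b₃₂` in the `0, 1/4, 1/32` eigenspaces of `mul a` (the `1`-component is `(B a b) • a`), the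
value of `μ b`, and the three fusion facts `0*0 ⊆ 0`, `0*(1/4) ⊆ 1/4`, `(1/4)*(1/4) ⊆ 1 + 0` for these
components. -/
structure MAxis (mul : V →ₗ[ℝ] V →ₗ[ℝ] V) (B : LinearMap.BilinForm ℝ V) (μ : V ≃ₗ[ℝ] V) (a : V) :
    Prop where
  map_mul : ∀ u v : V, μ (mul u v) = mul (μ u) (μ v)
  map_B : ∀ u v : V, B (μ u) (μ v) = B u v
  idem : mul a a = a
  norm : B a a = 1
  fix : μ a = a
  invol : ∀ b : V, μ (μ b) = b
  decomp : ∀ b : V, ∃ b₀ b₄ b₃₂ : V,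
    b = (B a b) • a + b₀ + b₄ + b₃₂ ∧ μ b = (B a b) • a + b₀ + b₄ - b₃₂ ∧
    mul a b₀ = 0 ∧ mul a b₄ = (1 / 4 : ℝ) • b₄ ∧ mul a b₃₂ = (1 / 32 : ℝ) • b₃₂ ∧
    mul a (mul b₀ b₀) = 0 ∧ mul a (mul b₀ b₄) = (1 / 4 : ℝ) • mul b₀ b₄ ∧
    mul a (mul b₄ b₄) = ((1 / 4 : ℝ) * B b₄ b₄) • a

/-- `sig a b = a·b - (a+b)/32` -/
def sig (mul : V →ₗ[ℝ] V →ₗ[ℝ] V) (a b : V) : V := mul a b - (1 / 32 : ℝ) • (a + b)

/-- `W = 32 (S_o - S_e)`, `S_o = sig a₁ (μ₀ a₁)`, `S_e = sig a₀ (μ₁ a₀)` -/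
def Wv (mul : V →ₗ[ℝ] V →ₗ[ℝ] V) (μ₀ μ₁ : V ≃ₗ[ℝ] V) (a₀ a₁ : V) : V :=
  (32 : ℝ) • (sig mul a₁ (μ₀ a₁) - sig mul a₀ (μ₁ a₀))

def pC (l : ℝ) : ℝ := 6 - 256 * l
def qC (l m : ℝ) : ℝ := (33 + 128 * m - 2304 * l + 32768 * l ^ 2) / 7
def nval (l m : ℝ) : ℝ := m + pC l * (m - l) + qC l m * (1 - l) - 30 * (m - l)
def kval (l m : ℝ) : ℝ := l - pC l * (1 - nval l m) - qC l m * (m - l) + 30 * (m - l)
def lam5 (l m : ℝ) : ℝ := 1 + pC l * (kval l m - l) + qC l m * (m - nval l m) - 30 * (m - l)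
def lam6 (l m : ℝ) : ℝ :=
  l - pC l * (m - lam5 l m) - qC l m * (kval l m - nval l m) + 30 * (m - l)
def F1 (l m : ℝ) : ℝ :=
  128 * m ^ 2 + (40960 * l ^ 2 + 8896 * l - 167) * m + 2097152 * l ^ 4 - 2326528 * l ^ 3
    + 184320 * l ^ 2 - 4800 * l + 39

end Cfsg.Agent.Lib.H10.Sak

end
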