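import Mathlib
import Cfsg.Prelude.Def_AxialAlgebras
import Cfsg.Agent.Lib.H10.Sak.Defs

/-! # S5544 (Sakuma), piece P0: from the Prelude definitions to `MAxis` -/

set_option autoImplicit false

namespace Cfsg.Agent.Lib.H10.Sak

open Cfsg Cfsg.Axial

variable {V : Type*} [AddCommGroup V] [Module ℝ V]
variable {mul : V →ₗ[ℝ] V →ₗ[ℝ] V} {B : LinearMap.BilinForm ℝ V}

theorem Amb.of_ambient (hV : IsMajoranaAmbient mul B) : Amb mul B := by
  obtain ⟨hcomm, hsymm, -, hassoc, -⟩ := hV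
  exact ⟨hcomm, hsymm, hassoc⟩

theorem axis_law_0_4 : monsterLaw (1 / 4 : ℝ) (1 / 32) 0 (1 / 4) = {1 / 4} := by
  unfold monsterLaw; norm_num
theorem axis_law_0_0 : monsterLaw (1 / 4 : ℝ) (1 / 32) 0 0 = {0} := by
  unfold monsterLaw; norm_num
theorem axis_law_4_4 : monsterLaw (1 / 4 : ℝ) (1 / 32) (1 / 4) (1 / 4) = {1, 0} := by
  unfold monsterLaw; norm_num

theorem axis_mem_eigen_iff (a v : V) (c : ℝ) : v ∈ eigen mul a c ↔ mul a v = c • v := by
  rw [eigen, Module.End.mem_eigenspace_iff]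

/-- splitting of a vector along the four eigenspaces, with the value of `μ` -/
theorem axis_split {μ : V ≃ₗ[ℝ] V} {a : V} (h : IsMajoranaPair mul B μ a) (b : V) :
    ∃ k : ℝ, ∃ e₀ e₄ e₃₂ : V, b = k • a + e₀ + e₄ + e₃₂ ∧ μ b = k • a + e₀ + e₄ - e₃₂ ∧
      mul a e₀ = 0 ∧ mul a e₄ = (1 / 4 : ℝ) • e₄ ∧ mul a e₃₂ = (1 / 32 : ℝ) • e₃₂ := by
  obtain ⟨-, -, ⟨⟨hne, hidem, htop, hlaw⟩, hprim⟩, hmiy1, hmiy2⟩ := h
  have hmem : b ∈ eigenSum mul a majoranaSpectrum := by rw [htop]; trivial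
  rw [majoranaSpectrum, eigenSum, iSup_insert, iSup_insert, iSup_insert, iSup_singleton] at hmem
  obtain ⟨e₁, he₁, r₁, hr₁, hsum₁⟩ := Submodule.mem_sup.mp hmem
  obtain ⟨e₀, he₀, r₂, hr₂, hsum₂⟩ := Submodule.mem_sup.mp hr₁
  obtain ⟨e₄, he₄, e₃₂, he₃₂, hsum₃⟩ := Submodule.mem_sup.mp hr₂
  have hplus : e₁ + e₀ + e₄ ∈ eigenSum mul a {1, 0, 1 / 4} := by
    rw [eigenSum, iSup_insert, iSup_insert, iSup_singleton]
    exact Submodule.add_mem _ (Submodule.add_mem _ (Submodule.mem_sup_left he₁)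
      (Submodule.mem_sup_right (Submodule.mem_sup_left he₀)))
      (Submodule.mem_sup_right (Submodule.mem_sup_right he₄))
  have h1 := hmiy1 _ hplus
  have h2 := hmiy2 _ he₃₂
  simp only [LinearEquiv.coe_coe] at h1 h2
  have hb : b = e₁ + e₀ + e₄ + e₃₂ := by
    rw [← hsum₁, ← hsum₂, ← hsum₃]; abel
  rw [hprim] at he₁
  obtain ⟨k, hk⟩ := Submodule.mem_span_singleton.mp he₁
  rw [axis_mem_eigen_iff] at he₀ he₄ he₃₂
  refine ⟨k, e₀, e₄, e₃₂, ?_, ?_, ?_, he₄, he₃₂⟩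
  · rw [hk]; exact hb
  · rw [hk, hb, map_add, h1, h2]; abel
  · rw [he₀, zero_smul]

theorem MAxis.of_pair (hV : IsMajoranaAmbient mul B) {μ : V ≃ₗ[ℝ] V} {a : V}
    (h : IsMajoranaPair mul B μ a) (hn : B a a = 1) : MAxis mul B μ a := by
  have hsplit := axis_split h
  obtain ⟨hcomm, hsymm, hpos, hassoc, -⟩ := hV
  obtain ⟨hm, hB, ⟨⟨hne, hidem, htop, hlaw⟩, hprim⟩, hmiy1, hmiy2⟩ := h
  have hS0 : (0 : ℝ) ∈ majoranaSpectrum := by simp [majoranaSpectrum]
  have hS4 : (1 / 4 : ℝ) ∈ majoranaSpectrum := by simp [majoranaSpectrum]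
  -- orthogonality to the axis
  have hB0 : ∀ e : V, mul a e = 0 → B a e = 0 := by
    intro e he
    have h5 : B a e = B (mul a a) e := by rw [hidem]
    rw [h5, ← hassoc, he, map_zero]
  have hBc : ∀ (c : ℝ) (e : V), c ≠ 1 → mul a e = c • e → B a e = 0 := by
    intro c e hc he
    have h5 : B a e = B (mul a a) e := by rw [hidem]
    rw [← hassoc, he, map_smul, smul_eq_mul] at h5
    have h6 : (1 - c) * B a e = 0 := by linarith
    rcases mul_eq_zero.mp h6 with h7 | h7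
    · exfalso; apply hc; linarith
    · exact h7
  refine ⟨hm, hB, hidem, hn, ?_, ?_, ?_⟩
  · -- fix
    have ha : a ∈ eigenSum mul a {1, 0, 1 / 4} := by
      rw [eigenSum, iSup_insert]
      apply Submodule.mem_sup_left
      rw [axis_mem_eigen_iff, hidem, one_smul]
    have := hmiy1 a ha
    simpa using this
  · -- invol
    intro b
    obtain ⟨k, e₀, e₄, e₃₂, hb, hμb, h0, h4, h32⟩ := hsplit b
    have hplus : k • a + e₀ + e₄ ∈ eigenSum mul a {1, 0, 1 / 4} := by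
      rw [eigenSum, iSup_insert, iSup_insert, iSup_singleton]
      refine Submodule.add_mem _ (Submodule.add_mem _ (Submodule.mem_sup_left ?_)
        (Submodule.mem_sup_right (Submodule.mem_sup_left ?_)))
        (Submodule.mem_sup_right (Submodule.mem_sup_right ?_))
      · rw [axis_mem_eigen_iff, map_smul, hidem, one_smul]
      · rw [axis_mem_eigen_iff, h0, zero_smul]
      · rw [axis_mem_eigen_iff, h4]
    have h1 := hmiy1 _ hplus
    have h2 := hmiy2 e₃₂ ((axis_mem_eigen_iff a e₃₂ _).mpr h32)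
    simp only [LinearEquiv.coe_coe] at h1 h2
    rw [hμb, map_sub, h1, h2, hb]; abel
  · -- decomp
    intro b
    obtain ⟨k, e₀, e₄, e₃₂, hb, hμb, h0, h4, h32⟩ := hsplit b
    have hk : k = B a b := by
      have e1 : B a e₀ = 0 := hB0 e₀ h0
      have e2 : B a e₄ = 0 := hBc (1 / 4) e₄ (by norm_num) h4
      have e3 : B a e₃₂ = 0 := hBc (1 / 32) e₃₂ (by norm_num) h32
      have : B a b = B a (k • a + e₀ + e₄ + e₃₂) := by rw [← hb]
      rw [this, map_add, map_add, map_add, map_smul, hn, e1, e2, e3]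
      simp
    subst hk
    have m0 : e₀ ∈ eigen mul a 0 := by rw [axis_mem_eigen_iff, h0, zero_smul]
    have m4 : e₄ ∈ eigen mul a (1 / 4) := by rw [axis_mem_eigen_iff, h4]
    refine ⟨e₀, e₄, e₃₂, hb, hμb, h0, h4, h32, ?_, ?_, ?_⟩
    · have := hlaw 0 hS0 0 hS0 e₀ m0 e₀ m0
      rw [axis_law_0_0, eigenSum, iSup_singleton, axis_mem_eigen_iff, zero_smul] at this
      exact this
    · have := hlaw 0 hS0 (1 / 4) hS4 e₀ m0 e₄ m4
      rw [axis_law_0_4, eigenSum, iSup_singleton, axis_mem_eigen_iff] at this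
      exact this
    · have := hlaw (1 / 4) hS4 (1 / 4) hS4 e₄ m4 e₄ m4
      rw [axis_law_4_4, eigenSum, iSup_insert, iSup_singleton] at this
      obtain ⟨p₁, hp₁, p₀, hp₀, hsum⟩ := Submodule.mem_sup.mp this
      rw [hprim] at hp₁
      obtain ⟨κ, hκ⟩ := Submodule.mem_span_singleton.mp hp₁
      rw [axis_mem_eigen_iff, zero_smul] at hp₀
      have hprod : mul a (mul e₄ e₄) = κ • a := by
        rw [← hsum, map_add, hp₀, ← hκ, map_smul, hidem, add_zero]
      have hκv : κ = (1 / 4 : ℝ) * B e₄ e₄ := by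
        have e1 : B a (mul e₄ e₄) = κ := by
          rw [← hsum, map_add, hB0 p₀ hp₀, ← hκ, map_smul, hn]; simp
        have e2 : B a (mul e₄ e₄) = B (mul a e₄) e₄ := hassoc _ _ _
        rw [h4, map_smul, LinearMap.smul_apply, smul_eq_mul] at e2
        rw [← e1, e2]
      rw [hprod, hκv]

/-- conjugate axis -/
theorem MAxis.conj (hA : Amb mul B) {μ : V ≃ₗ[ℝ] V} {a : V} (h : MAxis mul B μ a)
    (g : V ≃ₗ[ℝ] V) (hgm : ∀ u v : V, g (mul u v) = mul (g u) (g v))
    (hgB : ∀ u v : V, B (g u) (g v) = B u v) : MAxis mul B (g * μ * g⁻¹) (g a) := by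
  have hinv : ∀ x : V, g⁻¹ x = g.symm x := fun x => rfl
  have happ : ∀ x : V, (g * μ * g⁻¹) x = g (μ (g.symm x)) := fun x => rfl
  have hsm : ∀ u v : V, g.symm (mul u v) = mul (g.symm u) (g.symm v) := by
    intro u v
    apply g.injective
    rw [hgm, LinearEquiv.apply_symm_apply, LinearEquiv.apply_symm_apply,
      LinearEquiv.apply_symm_apply]
  have hsB : ∀ u v : V, B (g.symm u) (g.symm v) = B u v := by
    intro u v
    rw [← hgB, LinearEquiv.apply_symm_apply, LinearEquiv.apply_symm_apply]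
  refine ⟨?_, ?_, ?_, ?_, ?_, ?_, ?_⟩
  · intro u v
    rw [happ, happ, happ, hsm, h.map_mul, hgm]
  · intro u v
    rw [happ, happ, hgB, h.map_B, hsB]
  · rw [← hgm, h.idem]
  · rw [hgB, h.norm]
  · rw [happ, LinearEquiv.symm_apply_apply, h.fix]
  · intro b
    rw [happ, happ, LinearEquiv.symm_apply_apply, h.invol, LinearEquiv.apply_symm_apply]
  · intro b
    obtain ⟨b₀, b₄, b₃₂, hb, hμb, h0, h4, h32, f00, f04, f44⟩ := h.decomp (g.symm b)
    have hk : B a (g.symm b) = B (g a) b := by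
      rw [← hgB, LinearEquiv.apply_symm_apply]
    refine ⟨g b₀, g b₄, g b₃₂, ?_, ?_, ?_, ?_, ?_, ?_, ?_, ?_⟩
    · have := congrArg g hb
      rw [LinearEquiv.apply_symm_apply, map_add, map_add, map_add, map_smul, hk] at this
      exact this
    · rw [happ, hμb, map_sub, map_add, map_add, map_smul, hk]
    · rw [← hgm, h0, map_zero]
    · rw [← hgm, h4, map_smul]
    · rw [← hgm, h32, map_smul]
    · rw [← hgm, ← hgm, f00, map_zero]
    · rw [← hgm, ← hgm, f04, map_smul]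
    · rw [← hgm, ← hgm, f44, map_smul, hgB]

/-- the axis determines the involution -/
theorem MAxis.inv_unique {μ μ' : V ≃ₗ[ℝ] V} {a : V} (h : MAxis mul B μ a)
    (h' : MAxis mul B μ' a) : μ = μ' := by
  apply LinearEquiv.ext
  intro b
  obtain ⟨b₀, b₄, b₃₂, hb, hμb, h0, h4, h32, -, -, -⟩ := h.decomp b
  obtain ⟨c₀, c₄, c₃₂, hc, hμc, k0, k4, k32, -, -, -⟩ := h'.decomp b
  have E : (b₀ - c₀) + (b₄ - c₄) + (b₃₂ - c₃₂) = 0 := by
    linear_combination (norm := module) (hb.symm.trans hc)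
  have E1 := congrArg (mul a) E
  simp only [map_add, map_sub, map_zero, h0, h4, h32, k0, k4, k32] at E1
  have E2 := congrArg (mul a) E1
  simp only [map_add, map_sub, map_zero, map_smul, h0, h4, h32, k0, k4, k32] at E2
  have E3 : (7 / 1024 : ℝ) • (b₃₂ - c₃₂) = 0 := by
    linear_combination (norm := module) (1 / 4 : ℝ) • E1 - E2
  have E4 : b₃₂ - c₃₂ = 0 := by
    rcases smul_eq_zero.mp E3 with h7 | h7
    · norm_num at h7
    · exact h7
  rw [hμb, hμc]
  linear_combination (norm := module) (hb.symm.trans hc) - (2 : ℝ) • E4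

end Cfsg.Agent.Lib.H10.Sak
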