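import Mathlib
import Cfsg.Agent.Lib.H10.Sak.Defs

/-!
# Sakuma (S5544), piece P1: consequences of the eigen-decomposition of `b` w.r.t. an axis `a`
-/

set_option autoImplicit false

namespace Cfsg.Agent.Lib.H10.Sak

variable {V : Type*} [AddCommGroup V] [Module ℝ V]
variable {mul : V →ₗ[ℝ] V →ₗ[ℝ] V} {B : LinearMap.BilinForm ℝ V}

theorem U1 {μ : V ≃ₗ[ℝ] V} {a : V} (h : MAxis mul B μ a) (b : V) :
    mul a (b - μ b) = (1 / 32 : ℝ) • (b - μ b) := by
  obtain ⟨b0, b4, b32, hb, hμ, h0, h4, h32, -, -, -⟩ := h.decomp b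
  have e : b - μ b = (2 : ℝ) • b32 := by
    linear_combination (norm := module) hb - hμ
  rw [e, map_smul, h32]
  module

/-- `a * b` in terms of the components -/
theorem U_mul_eq {μ : V ≃ₗ[ℝ] V} {a : V} (h : MAxis mul B μ a) {b b0 b4 b32 : V} {lam : ℝ}
    (hb : b = lam • a + b0 + b4 + b32) (h0 : mul a b0 = 0) (h4 : mul a b4 = (1 / 4 : ℝ) • b4)
    (h32 : mul a b32 = (1 / 32 : ℝ) • b32) :
    mul a b = lam • a + (1 / 4 : ℝ) • b4 + (1 / 32 : ℝ) • b32 := by
  have := congrArg (mul a) hb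
  rw [this]
  simp only [map_add, map_smul, h.idem, h0, h4, h32]
  module

theorem U2 {μ : V ≃ₗ[ℝ] V} {a : V} (h : MAxis mul B μ a) (b : V) :
    mul a (mul a b) =
      ((3 / 4 : ℝ) * B a b) • a + (1 / 4 : ℝ) • mul a b - (7 / 2048 : ℝ) • (b - μ b) := by
  obtain ⟨b0, b4, b32, hb, hμ, h0, h4, h32, -, -, -⟩ := h.decomp b
  have e : b - μ b = (2 : ℝ) • b32 := by
    linear_combination (norm := module) hb - hμ
  have hab := U_mul_eq h hb h0 h4 h32
  rw [e, hab]
  simp only [map_add, map_smul, h.idem, h4, h32]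
  module

theorem FUS (hA : Amb mul B) {μ : V ≃ₗ[ℝ] V} {a : V} (h : MAxis mul B μ a) (b f g : V)
    (hf : f = (1 / 2 : ℝ) • (b + μ b) - (B a b) • a) (hg : g = mul a f) :
    mul a (mul f f) = (2 : ℝ) • mul f g - (8 : ℝ) • mul g g + (4 * B g g) • a ∧
    mul a (mul f g) = (1 / 4 : ℝ) • mul f g - mul g g + (B g g) • a := by
  obtain ⟨b0, b4, b32, hb, hμ, h0, h4, h32, f00, f04, f44⟩ := h.decomp b
  have ef : f = b0 + b4 := by
    rw [hf]
    linear_combination (norm := module) (1 / 2 : ℝ) • hb + (1 / 2 : ℝ) • hμ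
  have eg : g = (1 / 4 : ℝ) • b4 := by
    rw [hg, ef, map_add, h0, h4, zero_add]
  have e4 : b4 = (4 : ℝ) • g := by
    rw [eg]; module
  have e0 : b0 = f - (4 : ℝ) • g := by
    rw [ef, eg]; module
  rw [e0] at f00
  rw [e0, e4] at f04
  rw [e4] at f44
  simp only [map_sub, map_smul, LinearMap.sub_apply, LinearMap.smul_apply, smul_eq_mul,
    hA.comm g f] at f00 f04 f44
  have k44 : mul a (mul g g) = ((1 / 4 : ℝ) * B g g) • a := by
    linear_combination (norm := module) (1 / 16 : ℝ) • f44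
  have k04 : mul a (mul f g) = (1 / 4 : ℝ) • mul f g - mul g g + (B g g) • a := by
    linear_combination (norm := module) (1 / 4 : ℝ) • f04 + (4 : ℝ) • k44
  refine ⟨?_, k04⟩
  linear_combination (norm := module) f00 + (8 : ℝ) • k04 - (16 : ℝ) • k44

/-- eigenvectors of `mul a` for different eigenvalues are `B`-orthogonal -/
theorem U_orth (hA : Amb mul B) (a x y : V) (α β : ℝ) (hx : mul a x = α • x)
    (hy : mul a y = β • y) (hne : α ≠ β) : B x y = 0 := by
  have h1 : B x (mul a y) = B (mul a x) y := by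
    rw [hA.assoc, hA.comm x a]
  rw [hx, hy, map_smul, map_smul, LinearMap.smul_apply, smul_eq_mul, smul_eq_mul] at h1
  have h2 : (α - β) * B x y = 0 := by linarith
  rcases mul_eq_zero.mp h2 with h3 | h3
  · exact absurd (sub_eq_zero.mp h3) hne
  · exact h3

theorem Bgg (hA : Amb mul B) {μ : V ≃ₗ[ℝ] V} {a : V} (h : MAxis mul B μ a) (b f g : V)
    (hb : mul b b = b) (hbn : B b b = 1)
    (hf : f = (1 / 2 : ℝ) • (b + μ b) - (B a b) • a) (hg : g = mul a f) :
    B g g = (B a b - (B a b) ^ 2) / 4 - (1 - B b (μ b)) / 256 := by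
  obtain ⟨b0, b4, b32, hdb, hμ, h0, h4, h32, -, -, -⟩ := h.decomp b
  have ef : f = b0 + b4 := by
    rw [hf]
    linear_combination (norm := module) (1 / 2 : ℝ) • hdb + (1 / 2 : ℝ) • hμ
  have eg : g = (1 / 4 : ℝ) • b4 := by
    rw [hg, ef, map_add, h0, h4, zero_add]
  have e32 : b - μ b = (2 : ℝ) • b32 := by
    linear_combination (norm := module) hdb - hμ
  have hab := U_mul_eq h hdb h0 h4 h32
  -- orthogonality
  have ha1 : mul a a = (1 : ℝ) • a := by rw [h.idem, one_smul]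
  have h0' : mul a b0 = (0 : ℝ) • b0 := by rw [h0, zero_smul]
  have o1 : B a b0 = 0 := U_orth hA a a b0 1 0 ha1 h0' (by norm_num)
  have o2 : B a b4 = 0 := U_orth hA a a b4 1 (1 / 4) ha1 h4 (by norm_num)
  have o3 : B a b32 = 0 := U_orth hA a a b32 1 (1 / 32) ha1 h32 (by norm_num)
  have o4 : B b0 b4 = 0 := U_orth hA a b0 b4 0 (1 / 4) h0' h4 (by norm_num)
  have o5 : B b0 b32 = 0 := U_orth hA a b0 b32 0 (1 / 32) h0' h32 (by norm_num)
  have o6 : B b4 b32 = 0 := U_orth hA a b4 b32 (1 / 4) (1 / 32) h4 h32 (by norm_num)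
  have o2' : B b4 a = 0 := by rw [hA.symm]; exact o2
  have o3' : B b32 a = 0 := by rw [hA.symm]; exact o3
  have o6' : B b32 b4 = 0 := by rw [hA.symm]; exact o6
  have o1' : B b0 a = 0 := by rw [hA.symm]; exact o1
  -- first evaluation of `B b (a*b)`
  have F1 : B b (mul a b) = B a b := by
    rw [hA.symm, ← hA.assoc, hb]
  have F2 : B b (mul a b) = (B a b) ^ 2 + B b4 b4 / 4 + B b32 b32 / 32 := by
    have : B b (mul a b) =
        B (B a b • a + b0 + b4 + b32) (B a b • a + (1 / 4 : ℝ) • b4 + (1 / 32 : ℝ) • b32) := by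
      rw [hab, ← hdb]
    rw [this]
    simp only [map_add, map_smul, LinearMap.add_apply, LinearMap.smul_apply, smul_eq_mul,
      o1', o2, o3, o2', o3', o4, o5, o6, o6', h.norm]
    ring
  have F3 : B (b - μ b) (b - μ b) = 2 - 2 * B b (μ b) := by
    simp only [map_sub, LinearMap.sub_apply, h.map_B b b, hbn, hA.symm (μ b) b]
    ring
  have F4 : B (b - μ b) (b - μ b) = 4 * B b32 b32 := by
    rw [e32]
    simp only [map_smul, LinearMap.smul_apply, smul_eq_mul]
    ring
  have F5 : B g g = B b4 b4 / 16 := by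
    rw [eg]
    simp only [map_smul, LinearMap.smul_apply, smul_eq_mul]
    ring
  rw [F5]
  linarith

end Cfsg.Agent.Lib.H10.Sak
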