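import Mathlib
import Cfsg.Agent.Lib.H10.Sak.Defs
import Cfsg.Agent.Lib.H10.Sak.U

/-!
# Sakuma's theorem (S5544), PIECE P2 : `sig` and the first inner products (helper13)

Exact names + statements of `tools/blueprints/S5544_sigs.lean`.
-/

set_option autoImplicit false

namespace Cfsg.Agent.Lib.H10.Sak

variable {V : Type*} [AddCommGroup V] [Module ℝ V]
variable {mul : V →ₗ[ℝ] V →ₗ[ℝ] V} {B : LinearMap.BilinForm ℝ V}

theorem sig_comm (hA : Amb mul B) (a b : V) : sig mul a b = sig mul b a := by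
  unfold sig
  rw [hA.comm a b, add_comm a b]

theorem map_sig (g : V ≃ₗ[ℝ] V) (hgm : ∀ u v : V, g (mul u v) = mul (g u) (g v)) (a b : V) :
    g (sig mul a b) = sig mul (g a) (g b) := by
  unfold sig
  rw [map_sub, map_smul, map_add, hgm]

/-- `sig a b` is fixed by the involution of `a` -/
theorem sig_inv {μ : V ≃ₗ[ℝ] V} {a : V} (h : MAxis mul B μ a) (b : V) :
    μ (sig mul a b) = sig mul a b := by
  rw [map_sig μ h.map_mul, h.fix]
  have h1 := U1 h b
  rw [map_sub] at h1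
  unfold sig
  linear_combination (norm := module) (-1 : ℝ) • h1

theorem mul_sig {μ : V ≃ₗ[ℝ] V} {a : V} (h : MAxis mul B μ a) (b : V) :
    mul a (sig mul a b) =
      (7 / 32 : ℝ) • sig mul a b + ((3 / 4 : ℝ) * B a b - 25 / 1024) • a
        + (7 / 2048 : ℝ) • (b + μ b) := by
  have h2 := U2 h b
  unfold sig
  rw [map_sub, map_smul, map_add, h.idem]
  linear_combination (norm := module) (1 : ℝ) • h2

/-- `B a (a*b) = B a b` -/
theorem pair_B_mul {μ : V ≃ₗ[ℝ] V} {a : V} (hA : Amb mul B) (h : MAxis mul B μ a) (b : V) :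
    B a (mul a b) = B a b := by
  rw [hA.assoc, h.idem]

theorem B_sig (hA : Amb mul B) {μ : V ≃ₗ[ℝ] V} {a : V} (h : MAxis mul B μ a) (b : V) :
    B a (sig mul a b) = (31 * B a b - 1) / 32 := by
  unfold sig
  rw [map_sub, map_smul, map_add, pair_B_mul hA h, h.norm, smul_eq_mul]
  ring

/-- `B b (a*b) = B a b` for an idempotent `b` -/
theorem pair_B_mul' (hA : Amb mul B) (a b : V) (hb : mul b b = b) :
    B b (mul a b) = B a b := by
  rw [hA.comm a b, hA.assoc, hb, hA.symm]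

theorem B_mul_mul (hA : Amb mul B) {μ : V ≃ₗ[ℝ] V} {a : V} (h : MAxis mul B μ a) (b : V)
    (hb : mul b b = b) (hbn : B b b = 1) :
    B (mul a b) (mul a b) =
      (3 / 4 : ℝ) * (B a b) ^ 2 + (B a b) / 4 - (7 / 2048 : ℝ) * (1 - B b (μ b)) := by
  have h1 : B (mul a b) (mul a b) = B b (mul a (mul a b)) := by
    rw [hA.assoc b a (mul a b), hA.comm b a]
  rw [h1, U2 h b]
  simp only [map_add, map_sub, map_smul, smul_eq_mul]
  rw [pair_B_mul' hA a b hb, hbn, hA.symm b a]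
  ring

theorem B_sig_sig (hA : Amb mul B) {μ : V ≃ₗ[ℝ] V} {a : V} (h : MAxis mul B μ a) (b : V)
    (hb : mul b b = b) (hbn : B b b = 1) :
    B (sig mul a b) (sig mul a b) =
      (3 / 4 : ℝ) * (B a b) ^ 2 + (B a b) / 4 - (7 / 2048 : ℝ) * (1 - B b (μ b))
        - (B a b) / 8 + (1 + B a b) / 512 := by
  have h1 := B_mul_mul hA h b hb hbn
  have h2 : B (mul a b) a = B a b := by rw [hA.symm, pair_B_mul hA h]
  have h3 : B (mul a b) b = B a b := by rw [hA.symm, pair_B_mul' hA a b hb]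
  have h4 : B a (mul a b) = B a b := pair_B_mul hA h b
  have h5 : B b (mul a b) = B a b := pair_B_mul' hA a b hb
  have h6 : B b a = B a b := hA.symm b a
  unfold sig
  simp only [map_add, map_sub, map_smul, LinearMap.add_apply, LinearMap.sub_apply,
    LinearMap.smul_apply, smul_eq_mul]
  rw [h1, h2, h3, h4, h5, h6, h.norm, hbn]
  ring

theorem m_symm (hA : Amb mul B) {μ₀ μ₁ : V ≃ₗ[ℝ] V} {a₀ a₁ : V} (h₀ : MAxis mul B μ₀ a₀)
    (h₁ : MAxis mul B μ₁ a₁) : B a₀ (μ₁ a₀) = B a₁ (μ₀ a₁) := by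
  have e0 := B_sig_sig hA h₀ a₁ h₁.idem h₁.norm
  have e1 := B_sig_sig hA h₁ a₀ h₀.idem h₀.norm
  rw [sig_comm hA a₁ a₀, hA.symm a₁ a₀] at e1
  linarith

end Cfsg.Agent.Lib.H10.Sak
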