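import Mathlib
import Cfsg.Prelude.Def_AxialAlgebras
import Cfsg.Agent.Lib.H10.Sak.Defs
import Cfsg.Agent.Lib.H10.Sak.U
import Cfsg.Agent.Lib.H10.Sak.Pair

/-!
# S5544 (Sakuma), piece P3: the two formulas (B1), (B2)

For the axis `a = a₀` and `b = a₁`, `b' = μ₀ a₁`: with `f = (b + b')/2 - l a`, `g = a f` the fusion facts
`FUS` give two vector equations in the atoms `a, b, b', a₂, a₋₂, σ, b b', a (b b'), σ σ, a a₂, a a₋₂`;
solving them for `a (b b')` and `σ σ` gives (B1) and (B2).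
-/

set_option autoImplicit false

namespace Cfsg.Agent.Lib.H10.Sak

open Cfsg Cfsg.Axial

variable {V : Type*} [AddCommGroup V] [Module ℝ V]
variable {mul : V →ₗ[ℝ] V →ₗ[ℝ] V} {B : LinearMap.BilinForm ℝ V}

/-- the linear algebra of step B, with the product table as hypotheses -/
theorem stepB_core (hcomm : ∀ u v : V, mul u v = mul v u) (a b b' a2 am2 σ : V) (l m β : ℝ)
    (haa : mul a a = a)
    (hab : mul a b = σ + (1 / 32 : ℝ) • (a + b))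
    (hab' : mul a b' = σ + (1 / 32 : ℝ) • (a + b'))
    (haσ : mul a σ = (7 / 32 : ℝ) • σ + ((3 / 4 : ℝ) * l - 25 / 1024) • a + (7 / 2048 : ℝ) • (b + b'))
    (hbσ : mul b σ = (7 / 32 : ℝ) • σ + ((3 / 4 : ℝ) * l - 25 / 1024) • b + (7 / 2048 : ℝ) • (a + a2))
    (hb'σ : mul b' σ = (7 / 32 : ℝ) • σ + ((3 / 4 : ℝ) * l - 25 / 1024) • b' + (7 / 2048 : ℝ) • (a + am2))
    (hbb : mul b b = b) (hb'b' : mul b' b' = b')
    (f g : V) (hf : f = (1 / 2 : ℝ) • (b + b') - l • a) (hg : g = mul a f)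
    (hβ : β = (l - l ^ 2) / 4 - (1 - m) / 256)
    (E1 : mul a (mul f f) = (2 : ℝ) • mul f g - (8 : ℝ) • mul g g + (4 * β) • a)
    (E2 : mul a (mul f g) = (1 / 4 : ℝ) • mul f g - mul g g + β • a) :
    mul a (mul b b') =
        (7 / 192 : ℝ) • mul a (a2 + am2) + (l / 6 - 1 / 192) • (b + b')
          + (-1 / 24 - m / 24 + 5 * l / 3 - 32 * l ^ 2 / 3) • a
          + (32 * l / 3 - 1 / 3) • σ ∧
    mul σ σ =
        (7 / 2048 : ℝ) • mul b b' - (7 / 3072 : ℝ) • mul a (a2 + am2)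
          + (49 * l / 768 - 133 / 98304) • (b + b')
          + (21 / 65536 : ℝ) • (a2 + am2)
          + (7 / 98304 + 7 * m / 1536 - 7 * l / 384 + 7 * l ^ 2 / 6) • a
          - (13 / 1536 + 5 * l / 12) • σ := by
  have hba : mul b a = mul a b := hcomm b a
  have hb'a : mul b' a = mul a b' := hcomm b' a
  have hb'b : mul b' b = mul b b' := hcomm b' b
  have hσa : mul σ a = mul a σ := hcomm σ a
  have hσb : mul σ b = mul b σ := hcomm σ b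
  have hσb' : mul σ b' = mul b' σ := hcomm σ b'
  have hg' : g = ((1) : ℝ) • σ + ((1/32) + (-1) * l : ℝ) • a + ((1/64) : ℝ) • b + ((1/64) : ℝ) • b' := by
    rw [hg, hf]
    simp only [map_sub, map_add, map_smul]
    rw [hab, hab', haa]
    module
  have hff : mul f f = ((1/4) + (-1/32) * l : ℝ) • b + ((1/2) : ℝ) • mul b b' + ((-2) * l : ℝ) • σ
      + ((-1/16) * l + (1) * l ^ 2 : ℝ) • a + ((1/4) + (-1/32) * l : ℝ) • b' := by
    rw [hf]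
    simp only [map_sub, map_add, map_smul, LinearMap.sub_apply, LinearMap.add_apply, LinearMap.smul_apply]
    rw [hba, hb'a, hb'b, hab, hab', haa, hbb, hb'b']
    module
  have hfg : mul f g = ((1/4) + (-5/4) * l : ℝ) • σ + ((-1/256) + (91/256) * l : ℝ) • b
      + ((9/2048) + (-5/128) * l + (1/4) * l ^ 2 : ℝ) • a + ((7/4096) : ℝ) • a2 + ((1/64) : ℝ) • mul b b'
      + ((-1/256) + (91/256) * l : ℝ) • b' + ((7/4096) : ℝ) • am2 := by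
    rw [hg', hf]
    simp only [map_sub, map_add, map_smul, LinearMap.sub_apply, LinearMap.add_apply, LinearMap.smul_apply]
    rw [hba, hb'a, hb'b, hab, hab', haa, hbb, hb'b', haσ, hbσ, hb'σ]
    module
  have hgg : mul g g = ((1) : ℝ) • mul σ σ + ((15/512) + (-1/2) * l : ℝ) • σ
      + ((-9/32768) + (1/32) * l + (-1/2) * l ^ 2 : ℝ) • a + ((-9/32768) + (1/64) * l : ℝ) • b
      + ((-9/32768) + (1/64) * l : ℝ) • b' + ((7/65536) : ℝ) • a2 + ((7/65536) : ℝ) • am2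
      + ((1/2048) : ℝ) • mul b b' := by
    rw [hg']
    simp only [map_add, map_smul, LinearMap.add_apply, LinearMap.smul_apply]
    rw [hσa, hσb, hσb', hba, hb'a, hb'b, hab, hab', haa, hbb, hb'b', haσ, hbσ, hb'σ]
    module
  have haff : mul a (mul f f) = ((1/2) + (-1/2) * l : ℝ) • σ + ((1/64) + (-1/64) * l + (-1/2) * l ^ 2 : ℝ) • a
      + ((1/128) + (-1/128) * l : ℝ) • b + ((1/2) : ℝ) • mul a (mul b b') + ((1/128) + (-1/128) * l : ℝ) • b' := by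
    rw [hff]
    simp only [map_add, map_smul]
    rw [hab, hab', haa, haσ]
    module
  have hafg : mul a (mul f g) = ((3/64) + (7/16) * l : ℝ) • σ + ((-1/512) + (103/512) * l + (-11/16) * l ^ 2 : ℝ) • a
      + ((3/4096) + (7/1024) * l : ℝ) • b + ((3/4096) + (7/1024) * l : ℝ) • b' + ((7/4096) : ℝ) • mul a a2
      + ((1/64) : ℝ) • mul a (mul b b') + ((7/4096) : ℝ) • mul a am2 := by
    rw [hfg]
    simp only [map_add, map_smul]
    rw [hab, hab', haa, haσ]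
    module
  have hT : mul a (a2 + am2) = mul a a2 + mul a am2 := map_add _ _ _
  rw [haff, hfg, hgg] at E1
  rw [hafg, hfg, hgg] at E2
  subst hβ
  rw [hT]
  constructor
  · linear_combination (norm := module) (8 / 3 : ℝ) • E1 - (64 / 3 : ℝ) • E2
  · linear_combination (norm := module) (-1 / 24 : ℝ) • E1 + (4 / 3 : ℝ) • E2

theorem stepB (hA : Amb mul B) {μ₀ μ₁ : V ≃ₗ[ℝ] V} {a₀ a₁ : V} (h₀ : MAxis mul B μ₀ a₀)
    (h₁ : MAxis mul B μ₁ a₁) (l m : ℝ) (hl : l = B a₀ a₁) (hm : m = B a₀ (μ₁ a₀)) :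
    mul a₀ (mul a₁ (μ₀ a₁)) =
        (7 / 192 : ℝ) • mul a₀ (μ₁ a₀ + μ₀ (μ₁ a₀)) + (l / 6 - 1 / 192) • (a₁ + μ₀ a₁)
          + (-1 / 24 - m / 24 + 5 * l / 3 - 32 * l ^ 2 / 3) • a₀
          + (32 * l / 3 - 1 / 3) • sig mul a₀ a₁ ∧
    mul (sig mul a₀ a₁) (sig mul a₀ a₁) =
        (7 / 2048 : ℝ) • mul a₁ (μ₀ a₁) - (7 / 3072 : ℝ) • mul a₀ (μ₁ a₀ + μ₀ (μ₁ a₀))
          + (49 * l / 768 - 133 / 98304) • (a₁ + μ₀ a₁)
          + (21 / 65536 : ℝ) • (μ₁ a₀ + μ₀ (μ₁ a₀))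
          + (7 / 98304 + 7 * m / 1536 - 7 * l / 384 + 7 * l ^ 2 / 6) • a₀
          - (13 / 1536 + 5 * l / 12) • sig mul a₀ a₁ := by
  have hσ0 : μ₀ (sig mul a₀ a₁) = sig mul a₀ a₁ := sig_inv h₀ a₁
  have hab : mul a₀ a₁ = sig mul a₀ a₁ + (1 / 32 : ℝ) • (a₀ + a₁) := by
    unfold sig; module
  have hab' : mul a₀ (μ₀ a₁) = sig mul a₀ a₁ + (1 / 32 : ℝ) • (a₀ + μ₀ a₁) := by
    have h1 := congrArg μ₀ hab
    rw [h₀.map_mul, h₀.fix, map_add, map_smul, map_add, h₀.fix, hσ0] at h1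
    exact h1
  have haσ : mul a₀ (sig mul a₀ a₁) = (7 / 32 : ℝ) • sig mul a₀ a₁ + ((3 / 4 : ℝ) * l - 25 / 1024) • a₀
      + (7 / 2048 : ℝ) • (a₁ + μ₀ a₁) := by
    rw [hl]; exact mul_sig h₀ a₁
  have hl' : B a₁ a₀ = l := by rw [hl]; exact hA.symm a₁ a₀
  have hbσ : mul a₁ (sig mul a₀ a₁) = (7 / 32 : ℝ) • sig mul a₀ a₁ + ((3 / 4 : ℝ) * l - 25 / 1024) • a₁
      + (7 / 2048 : ℝ) • (a₀ + μ₁ a₀) := by
    have h1 := mul_sig h₁ a₀
    rw [sig_comm hA a₁ a₀, hl'] at h1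
    exact h1
  have hb'σ : mul (μ₀ a₁) (sig mul a₀ a₁) = (7 / 32 : ℝ) • sig mul a₀ a₁
      + ((3 / 4 : ℝ) * l - 25 / 1024) • μ₀ a₁ + (7 / 2048 : ℝ) • (a₀ + μ₀ (μ₁ a₀)) := by
    have h1 := congrArg μ₀ hbσ
    rw [h₀.map_mul, hσ0] at h1
    simp only [map_add, map_smul] at h1
    rw [hσ0, h₀.fix] at h1
    exact h1
  have hb'b' : mul (μ₀ a₁) (μ₀ a₁) = μ₀ a₁ := by
    rw [← h₀.map_mul, h₁.idem]
  have hmm : m = B a₁ (μ₀ a₁) := by rw [hm]; exact m_symm hA h₀ h₁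
  have hβ : B (mul a₀ ((1 / 2 : ℝ) • (a₁ + μ₀ a₁) - l • a₀)) (mul a₀ ((1 / 2 : ℝ) • (a₁ + μ₀ a₁) - l • a₀))
      = (l - l ^ 2) / 4 - (1 - m) / 256 := by
    rw [hl, hmm]
    exact Bgg hA h₀ a₁ _ _ h₁.idem h₁.norm rfl rfl
  obtain ⟨E1, E2⟩ := FUS hA h₀ a₁ ((1 / 2 : ℝ) • (a₁ + μ₀ a₁) - (B a₀ a₁) • a₀)
    (mul a₀ ((1 / 2 : ℝ) • (a₁ + μ₀ a₁) - (B a₀ a₁) • a₀)) rfl rfl
  rw [← hl] at E1 E2
  exact stepB_core hA.comm a₀ a₁ (μ₀ a₁) (μ₁ a₀) (μ₀ (μ₁ a₀)) (sig mul a₀ a₁) l m _ h₀.idem hab hab' haσ hbσ hb'σ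
    h₁.idem hb'b' _ _ rfl rfl hβ.symm.symm E1 E2

end Cfsg.Agent.Lib.H10.Sak
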