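import Mathlib
import Cfsg.Prelude.Def_AxialAlgebras
import Cfsg.Agent.Lib.H10.Sak.Defs
import Cfsg.Agent.Lib.H10.Sak.Pair
import Cfsg.Agent.Lib.H10.Sak.StepB

/-! # S5544 (Sakuma), piece P4: the linear relation R1 -/

set_option autoImplicit false

namespace Cfsg.Agent.Lib.H10.Sak

open Cfsg Cfsg.Axial

variable {V : Type*} [AddCommGroup V] [Module ℝ V]
variable {mul : V →ₗ[ℝ] V →ₗ[ℝ] V} {B : LinearMap.BilinForm ℝ V}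

theorem R1 (hA : Amb mul B) {μ₀ μ₁ : V ≃ₗ[ℝ] V} {a₀ a₁ : V} (h₀ : MAxis mul B μ₀ a₀)
    (h₁ : MAxis mul B μ₁ a₁) (l m : ℝ) (hl : l = B a₀ a₁) (hm : m = B a₀ (μ₁ a₀)) :
    μ₁ (μ₀ a₁) = μ₀ (μ₁ a₀) + pC l • (μ₁ a₀ - μ₀ a₁) + qC l m • (a₀ - a₁)
      + Wv mul μ₀ μ₁ a₀ a₁ := by
  have hl' : l = B a₁ a₀ := by rw [hl, hA.symm]
  have hm0 : m = B a₁ (μ₀ a₁) := by rw [hm]; exact m_symm hA h₀ h₁
  have hm' : m = B a₁ (μ₀ a₁) := hm0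
  obtain ⟨-, hY⟩ := stepB hA h₀ h₁ l m hl hm
  obtain ⟨-, hY'⟩ := stepB hA h₁ h₀ l m hl' hm'
  rw [sig_comm hA a₁ a₀] at hY'
  have hSo : μ₁ (sig mul a₁ (μ₀ a₁)) = sig mul a₁ (μ₀ a₁) := sig_inv h₁ _
  have hSe : μ₀ (sig mul a₀ (μ₁ a₀)) = sig mul a₀ (μ₁ a₀) := sig_inv h₀ _
  rw [map_sig μ₁ h₁.map_mul, h₁.fix] at hSo
  rw [map_sig μ₀ h₀.map_mul, h₀.fix] at hSe
  unfold sig at hSo hSe hY hY'
  simp only [map_add] at hY hY'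
  unfold Wv sig pC qC
  linear_combination (norm := module) (196608 / 49 : ℝ) • hY - (196608 / 49 : ℝ) • hY'
    + (64 / 7 : ℝ) • hSo - (64 / 7 : ℝ) • hSe

end Cfsg.Agent.Lib.H10.Sak
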