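import Mathlib
import Cfsg.Prelude.Def_AxialAlgebras
import Cfsg.Agent.Lib.H10.Sak.Defs
import Cfsg.Agent.Lib.H10.Sak.U
import Cfsg.Agent.Lib.H10.Sak.Pair
import Cfsg.Agent.Lib.H10.Sak.R1

/-!
# S5544 (Sakuma), piece P5: the values `(a₀, a_j)` for `j = 3, 4, 5, 6`

`W = Wv` is fixed by both involutions, `(a₀, W) = -30 (m - l)`, `(a₁, W) = 30 (m - l)`, and the
relation `R1` and its images under `μ₁`, `μ₁ μ₀`, `μ₁ μ₀ μ₁` give the recurrences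
`nval`, `kval`, `lam5`, `lam6`.
-/

set_option autoImplicit false

namespace Cfsg.Agent.Lib.H10.Sak

open Cfsg Cfsg.Axial

variable {V : Type*} [AddCommGroup V] [Module ℝ V]
variable {mul : V →ₗ[ℝ] V →ₗ[ℝ] V} {B : LinearMap.BilinForm ℝ V}

/-- `μ₀` fixes `S_o = sig a₁ (μ₀ a₁)` -/
theorem lam_So_inv0 (hA : Amb mul B) {μ₀ : V ≃ₗ[ℝ] V} {a₀ : V} (h₀ : MAxis mul B μ₀ a₀)
    (a₁ : V) : μ₀ (sig mul a₁ (μ₀ a₁)) = sig mul a₁ (μ₀ a₁) := by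
  rw [map_sig μ₀ h₀.map_mul, h₀.invol, sig_comm hA]

theorem Wv_inv0 (hA : Amb mul B) {μ₀ μ₁ : V ≃ₗ[ℝ] V} {a₀ a₁ : V} (h₀ : MAxis mul B μ₀ a₀)
    (h₁ : MAxis mul B μ₁ a₁) : μ₀ (Wv mul μ₀ μ₁ a₀ a₁) = Wv mul μ₀ μ₁ a₀ a₁ := by
  unfold Wv
  rw [map_smul, map_sub, lam_So_inv0 hA h₀ a₁, sig_inv h₀ (μ₁ a₀)]

theorem Wv_inv1 (hA : Amb mul B) {μ₀ μ₁ : V ≃ₗ[ℝ] V} {a₀ a₁ : V} (h₀ : MAxis mul B μ₀ a₀)
    (h₁ : MAxis mul B μ₁ a₁) : μ₁ (Wv mul μ₀ μ₁ a₀ a₁) = Wv mul μ₀ μ₁ a₀ a₁ := by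
  unfold Wv
  rw [map_smul, map_sub, lam_So_inv0 hA h₁ a₀, sig_inv h₁ (μ₀ a₁)]

/-- `B a (sig a' (μ' a')) ` for the *other* axis: `(a₁, S_e) = (30 l - 1 + m)/32`. -/
theorem lam_B_other (hA : Amb mul B) {μ₀ μ₁ : V ≃ₗ[ℝ] V} {a₀ a₁ : V} (h₀ : MAxis mul B μ₀ a₀)
    (h₁ : MAxis mul B μ₁ a₁) :
    B a₁ (sig mul a₀ (μ₁ a₀)) = (30 * B a₀ a₁ - 1 + B a₀ (μ₁ a₀)) / 32 := by
  have e1 : B a₁ (mul a₀ (μ₁ a₀)) = B (mul a₁ a₀) (μ₁ a₀) := hA.assoc a₁ a₀ (μ₁ a₀)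
  have e2 : mul a₁ a₀ = sig mul a₁ a₀ + (1 / 32 : ℝ) • (a₁ + a₀) := by
    unfold sig; module
  have e3 : B (sig mul a₁ a₀) (μ₁ a₀) = (31 * B a₀ a₁ - 1) / 32 := by
    have h := h₁.map_B (sig mul a₁ a₀) a₀
    rw [sig_inv h₁ a₀] at h
    rw [h, hA.symm, sig_comm hA, B_sig hA h₀ a₁]
  have e4 : B a₁ (μ₁ a₀) = B a₀ a₁ := by
    have h := h₁.map_B a₁ a₀
    rw [h₁.fix] at h
    rw [h, hA.symm]
  have e5 : B a₁ a₀ = B a₀ a₁ := hA.symm a₁ a₀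
  have hs : sig mul a₀ (μ₁ a₀) = mul a₀ (μ₁ a₀) - (1 / 32 : ℝ) • (a₀ + μ₁ a₀) := rfl
  rw [hs, map_sub, map_smul, map_add, e1, e2]
  simp only [map_add, map_smul, LinearMap.add_apply, LinearMap.smul_apply, smul_eq_mul]
  rw [e3, e4, e5]
  ring

theorem B_a1_Wv (hA : Amb mul B) {μ₀ μ₁ : V ≃ₗ[ℝ] V} {a₀ a₁ : V} (h₀ : MAxis mul B μ₀ a₀)
    (h₁ : MAxis mul B μ₁ a₁) (l m : ℝ) (hl : l = B a₀ a₁) (hm : m = B a₀ (μ₁ a₀)) :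
    B a₁ (Wv mul μ₀ μ₁ a₀ a₁) = 30 * (m - l) := by
  have e1 : B a₁ (sig mul a₁ (μ₀ a₁)) = (31 * m - 1) / 32 := by
    rw [B_sig hA h₁ (μ₀ a₁), ← m_symm hA h₀ h₁, ← hm]
  have e2 := lam_B_other hA h₀ h₁
  rw [← hl, ← hm] at e2
  unfold Wv
  rw [map_smul, map_sub, e1, e2, smul_eq_mul]
  ring

theorem B_a0_Wv (hA : Amb mul B) {μ₀ μ₁ : V ≃ₗ[ℝ] V} {a₀ a₁ : V} (h₀ : MAxis mul B μ₀ a₀)
    (h₁ : MAxis mul B μ₁ a₁) (l m : ℝ) (hl : l = B a₀ a₁) (hm : m = B a₀ (μ₁ a₀)) :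
    B a₀ (Wv mul μ₀ μ₁ a₀ a₁) = -30 * (m - l) := by
  have e1 : B a₀ (sig mul a₀ (μ₁ a₀)) = (31 * m - 1) / 32 := by
    rw [B_sig hA h₀ (μ₁ a₀), ← hm]
  have e2 := lam_B_other hA h₁ h₀
  rw [hA.symm a₁ a₀, ← hl, ← m_symm hA h₀ h₁, ← hm] at e2
  unfold Wv
  rw [map_smul, map_sub, e1, e2, smul_eq_mul]
  ring

theorem lam_vals (hA : Amb mul B) {μ₀ μ₁ : V ≃ₗ[ℝ] V} {a₀ a₁ : V} (h₀ : MAxis mul B μ₀ a₀)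
    (h₁ : MAxis mul B μ₁ a₁) (l m : ℝ) (hl : l = B a₀ a₁) (hm : m = B a₀ (μ₁ a₀)) :
    B a₀ (μ₁ (μ₀ a₁)) = nval l m ∧
    B a₀ (μ₁ (μ₀ (μ₁ a₀))) = kval l m ∧
    B a₀ (μ₁ (μ₀ (μ₁ (μ₀ a₁)))) = lam5 l m ∧
    B a₀ (μ₁ (μ₀ (μ₁ (μ₀ (μ₁ a₀))))) = lam6 l m := by
  have hR := R1 hA h₀ h₁ l m hl hm
  have hW0 := Wv_inv0 hA h₀ h₁
  have hW1 := Wv_inv1 hA h₀ h₁
  have hBW := B_a0_Wv hA h₀ h₁ l m hl hm
  set W := Wv mul μ₀ μ₁ a₀ a₁ with hWdef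
  -- `B a₀ (μ₀ x) = B a₀ x`
  have hB0 : ∀ x : V, B a₀ (μ₀ x) = B a₀ x := by
    intro x
    have h := h₀.map_B a₀ x
    rw [h₀.fix] at h
    exact h
  have hl' : B a₀ a₁ = l := hl.symm
  have hm' : B a₀ (μ₁ a₀) = m := hm.symm
  have hn0 : B a₀ a₀ = 1 := h₀.norm
  -- the image of R1 under μ₁
  have hR1 : μ₀ a₁ = μ₁ (μ₀ (μ₁ a₀)) + pC l • (a₀ - μ₁ (μ₀ a₁)) + qC l m • (μ₁ a₀ - a₁) + W := by
    have h := congrArg μ₁ hR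
    simp only [map_add, map_sub, map_smul] at h
    rw [h₁.invol, h₁.invol, h₁.fix, hW1] at h
    exact h
  -- the image of R1 under μ₁ μ₀
  have hR2 : μ₁ (μ₀ (μ₁ (μ₀ a₁))) =
      a₀ + pC l • (μ₁ (μ₀ (μ₁ a₀)) - a₁) + qC l m • (μ₁ a₀ - μ₁ (μ₀ a₁)) + W := by
    have h := congrArg (fun x => μ₁ (μ₀ x)) hR
    simp only [map_add, map_sub, map_smul] at h
    rw [h₀.invol, h₀.invol, h₀.fix, hW0, hW1, h₁.invol, h₁.fix] at h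
    exact h
  -- the image of hR1 under μ₁ μ₀
  have hR3 : a₁ = μ₁ (μ₀ (μ₁ (μ₀ (μ₁ a₀)))) + pC l • (μ₁ a₀ - μ₁ (μ₀ (μ₁ (μ₀ a₁))))
      + qC l m • (μ₁ (μ₀ (μ₁ a₀)) - μ₁ (μ₀ a₁)) + W := by
    have h := congrArg (fun x => μ₁ (μ₀ x)) hR1
    simp only [map_add, map_sub, map_smul] at h
    rw [h₀.invol, h₀.fix, hW0, hW1, h₁.fix] at h
    exact h
  have e3 : B a₀ (μ₁ (μ₀ a₁)) = nval l m := by
    have h := congrArg (B a₀) hR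
    simp only [map_add, map_sub, map_smul, smul_eq_mul] at h
    rw [hB0, hB0, hm', hl', hn0, hBW] at h
    rw [h]; unfold nval; ring
  have e4 : B a₀ (μ₁ (μ₀ (μ₁ a₀))) = kval l m := by
    have h := congrArg (B a₀) hR1
    simp only [map_add, map_sub, map_smul, smul_eq_mul] at h
    rw [hB0, hl', hn0, e3, hm', hBW] at h
    unfold kval; linarith
  have e5 : B a₀ (μ₁ (μ₀ (μ₁ (μ₀ a₁)))) = lam5 l m := by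
    have h := congrArg (B a₀) hR2
    simp only [map_add, map_sub, map_smul, smul_eq_mul] at h
    rw [hn0, e4, hl', hm', e3, hBW] at h
    rw [h]; unfold lam5; ring
  have e6 : B a₀ (μ₁ (μ₀ (μ₁ (μ₀ (μ₁ a₀))))) = lam6 l m := by
    have h := congrArg (B a₀) hR3
    simp only [map_add, map_sub, map_smul, smul_eq_mul] at h
    rw [hl', hm', e5, e4, e3, hBW] at h
    unfold lam6; linarith
  exact ⟨e3, e4, e5, e6⟩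

end Cfsg.Agent.Lib.H10.Sak
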