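import Mathlib
import Cfsg.Agent.Lib.H10.Sak.Defs
import Cfsg.Agent.Lib.H10.Sak.U
import Cfsg.Agent.Lib.H10.Sak.Pair
import Cfsg.Agent.Lib.H10.Sak.R1
import Cfsg.Agent.Lib.H10.Sak.Lam

/-!
# Sakuma (S5544), piece P6a: inner products `(a_{-1},a_3)`, `(a_2,a_{-2})`, `(S_o,S_o)`, `(S_e,S_e)`,
`(X_i, a_j)`
-/

set_option autoImplicit false

namespace Cfsg.Agent.Lib.H10.Sak

variable {V : Type*} [AddCommGroup V] [Module ℝ V]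
variable {mul : V →ₗ[ℝ] V →ₗ[ℝ] V} {B : LinearMap.BilinForm ℝ V}

/-- `B a (μ x) = B a x` for the axis `a` of `μ` -/
theorem Inner_fix_right {μ : V ≃ₗ[ℝ] V} {a : V} (h : MAxis mul B μ a) (x : V) :
    B a (μ x) = B a x := by
  have := h.map_B a x
  rwa [h.fix] at this

theorem Inner_fix_left {μ : V ≃ₗ[ℝ] V} {a : V} (h : MAxis mul B μ a) (x : V) :
    B (μ x) a = B x a := by
  have := h.map_B x a
  rwa [h.fix] at this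

/-- `B (μ x) y = B x (μ y)` -/
theorem Inner_swap {μ : V ≃ₗ[ℝ] V} {a : V} (h : MAxis mul B μ a) (x y : V) :
    B (μ x) y = B x (μ y) := by
  have := h.map_B x (μ y)
  rw [h.invol] at this
  exact this

/-- the basic table of inner products -/
theorem Inner_table (hA : Amb mul B) {μ₀ μ₁ : V ≃ₗ[ℝ] V} {a₀ a₁ : V} (h₀ : MAxis mul B μ₀ a₀)
    (h₁ : MAxis mul B μ₁ a₁) (l m : ℝ) (hl : l = B a₀ a₁) (hm : m = B a₀ (μ₁ a₀)) :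
    B a₁ a₀ = l ∧ B a₁ (μ₀ a₁) = m ∧ B (μ₀ a₁) a₁ = m ∧ B (μ₁ a₀) a₀ = m ∧
    B a₀ (μ₀ a₁) = l ∧ B (μ₀ a₁) a₀ = l ∧ B a₁ (μ₁ a₀) = l ∧ B (μ₁ a₀) a₁ = l ∧
    B (μ₀ a₁) (μ₁ a₀) = nval l m ∧ B (μ₁ a₀) (μ₀ a₁) = nval l m := by
  obtain ⟨e3, -, -, -⟩ := lam_vals hA h₀ h₁ l m hl hm
  have hms := m_symm hA h₀ h₁
  have t1 : B a₁ a₀ = l := by rw [hA.symm, hl]
  have t2 : B a₁ (μ₀ a₁) = m := by rw [← hms, hm]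
  have t3 : B (μ₀ a₁) a₁ = m := by rw [hA.symm, t2]
  have t4 : B (μ₁ a₀) a₀ = m := by rw [hA.symm, hm]
  have t5 : B a₀ (μ₀ a₁) = l := by rw [Inner_fix_right h₀, hl]
  have t6 : B (μ₀ a₁) a₀ = l := by rw [hA.symm, t5]
  have t7 : B a₁ (μ₁ a₀) = l := by rw [Inner_fix_right h₁, t1]
  have t8 : B (μ₁ a₀) a₁ = l := by rw [hA.symm, t7]
  have t9 : B (μ₀ a₁) (μ₁ a₀) = nval l m := by
    rw [hA.symm, Inner_swap h₁, e3]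
  have t10 : B (μ₁ a₀) (μ₀ a₁) = nval l m := by rw [hA.symm, t9]
  exact ⟨t1, t2, t3, t4, t5, t6, t7, t8, t9, t10⟩

/-- `(a_{-1}, a_3) = k` -/
theorem B_am1_a3 (hA : Amb mul B) {μ₀ μ₁ : V ≃ₗ[ℝ] V} {a₀ a₁ : V} (h₀ : MAxis mul B μ₀ a₀)
    (h₁ : MAxis mul B μ₁ a₁) (l m : ℝ) (hl : l = B a₀ a₁) (hm : m = B a₀ (μ₁ a₀)) :
    B (μ₀ a₁) (μ₁ (μ₀ a₁)) = kval l m := by
  have hR := R1 hA h₀ h₁ l m hl hm
  obtain ⟨t1, t2, t3, t4, t5, t6, t7, t8, t9, t10⟩ := Inner_table hA h₀ h₁ l m hl hm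
  have hW := B_a1_Wv hA h₀ h₁ l m hl hm
  have hW0 := Wv_inv0 hA h₀ h₁
  have c1 : B (μ₀ a₁) (μ₀ (μ₁ a₀)) = l := by rw [h₀.map_B, t7]
  have c2 : B (μ₀ a₁) (μ₀ a₁) = 1 := by rw [h₀.map_B, h₁.norm]
  have c3 : B (μ₀ a₁) (Wv mul μ₀ μ₁ a₀ a₁) = 30 * (m - l) := by
    rw [Inner_swap h₀, hW0, hW]
  rw [hR]
  simp only [map_add, map_sub, map_smul, smul_eq_mul, c1, c2, c3, t9, t6, t3]
  unfold kval
  ring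

/-- `(a_2, a_{-2}) = k` -/
theorem B_a2_am2 (hA : Amb mul B) {μ₀ μ₁ : V ≃ₗ[ℝ] V} {a₀ a₁ : V} (h₀ : MAxis mul B μ₀ a₀)
    (h₁ : MAxis mul B μ₁ a₁) (l m : ℝ) (hl : l = B a₀ a₁) (hm : m = B a₀ (μ₁ a₀)) :
    B (μ₁ a₀) (μ₀ (μ₁ a₀)) = kval l m := by
  obtain ⟨-, e4, -, -⟩ := lam_vals hA h₀ h₁ l m hl hm
  rw [Inner_swap h₁, e4]

/-- `(S_o,S_o)` and `(S_e,S_e)` -/
theorem B_So_So (hA : Amb mul B) {μ₀ μ₁ : V ≃ₗ[ℝ] V} {a₀ a₁ : V} (h₀ : MAxis mul B μ₀ a₀)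
    (h₁ : MAxis mul B μ₁ a₁) (l m : ℝ) (hl : l = B a₀ a₁) (hm : m = B a₀ (μ₁ a₀)) :
    B (sig mul a₁ (μ₀ a₁)) (sig mul a₁ (μ₀ a₁)) =
      3 * m ^ 2 / 4 + m / 4 - (7 / 2048 : ℝ) * (1 - kval l m) - m / 8 + (1 + m) / 512 := by
  obtain ⟨t1, t2, t3, t4, t5, t6, t7, t8, t9, t10⟩ := Inner_table hA h₀ h₁ l m hl hm
  have hb : mul (μ₀ a₁) (μ₀ a₁) = μ₀ a₁ := by rw [← h₀.map_mul, h₁.idem]
  have hbn : B (μ₀ a₁) (μ₀ a₁) = 1 := by rw [h₀.map_B, h₁.norm]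
  rw [B_sig_sig hA h₁ (μ₀ a₁) hb hbn, t2, B_am1_a3 hA h₀ h₁ l m hl hm]
  ring

theorem B_Se_Se (hA : Amb mul B) {μ₀ μ₁ : V ≃ₗ[ℝ] V} {a₀ a₁ : V} (h₀ : MAxis mul B μ₀ a₀)
    (h₁ : MAxis mul B μ₁ a₁) (l m : ℝ) (hl : l = B a₀ a₁) (hm : m = B a₀ (μ₁ a₀)) :
    B (sig mul a₀ (μ₁ a₀)) (sig mul a₀ (μ₁ a₀)) =
      3 * m ^ 2 / 4 + m / 4 - (7 / 2048 : ℝ) * (1 - kval l m) - m / 8 + (1 + m) / 512 := by
  have hb : mul (μ₁ a₀) (μ₁ a₀) = μ₁ a₀ := by rw [← h₁.map_mul, h₀.idem]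
  have hbn : B (μ₁ a₀) (μ₁ a₀) = 1 := by rw [h₁.map_B, h₀.norm]
  rw [B_sig_sig hA h₀ (μ₁ a₀) hb hbn, ← hm, B_a2_am2 hA h₀ h₁ l m hl hm]
  ring

/-- `a * b = sig a b + (a + b)/32` -/
theorem Inner_mul_eq (a b : V) :
    mul a b = sig mul a b + (1 / 32 : ℝ) • (a + b) := by
  unfold sig; module

/-- `(X_0,a_0)`, `(X_0,a_2)`, `(X_1,a_1)`, `(X_1,a_{-1})` -/
theorem B_X_a (hA : Amb mul B) {μ₀ μ₁ : V ≃ₗ[ℝ] V} {a₀ a₁ : V} (h₀ : MAxis mul B μ₀ a₀)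
    (h₁ : MAxis mul B μ₁ a₁) (l m : ℝ) (hl : l = B a₀ a₁) (hm : m = B a₀ (μ₁ a₀)) :
    B (mul a₁ (μ₀ a₁)) a₀ = (32 * l - 1 + m) / 32 ∧
    B (mul a₁ (μ₀ a₁)) (μ₁ a₀) = (31 * l - 1) / 32 + (m + nval l m) / 32 ∧
    B (mul a₀ (μ₁ a₀)) a₁ = (32 * l - 1 + m) / 32 ∧
    B (mul a₀ (μ₁ a₀)) (μ₀ a₁) = (31 * l - 1) / 32 + (m + nval l m) / 32 := by
  obtain ⟨t1, t2, t3, t4, t5, t6, t7, t8, t9, t10⟩ := Inner_table hA h₀ h₁ l m hl hm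
  -- σ := sig a₀ a₁ is fixed by μ₀ and μ₁
  have hσ0 : μ₀ (sig mul a₀ a₁) = sig mul a₀ a₁ := sig_inv h₀ a₁
  have hσ1 : μ₁ (sig mul a₀ a₁) = sig mul a₀ a₁ := by
    rw [sig_comm hA a₀ a₁]; exact sig_inv h₁ a₀
  have s0 : B (sig mul a₀ a₁) a₀ = (31 * l - 1) / 32 := by
    rw [hA.symm, B_sig hA h₀ a₁, ← hl]
  have s1 : B (sig mul a₀ a₁) a₁ = (31 * l - 1) / 32 := by
    rw [hA.symm, sig_comm hA a₀ a₁, B_sig hA h₁ a₀, t1]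
  have sm1 : B (sig mul a₀ a₁) (μ₀ a₁) = (31 * l - 1) / 32 := by
    rw [← hσ0, h₀.map_B, s1]
  have s2 : B (sig mul a₀ a₁) (μ₁ a₀) = (31 * l - 1) / 32 := by
    rw [← hσ1, h₁.map_B, s0]
  -- the products
  have p01 : mul a₀ a₁ = sig mul a₀ a₁ + (1 / 32 : ℝ) • (a₀ + a₁) := Inner_mul_eq a₀ a₁
  have p10 : mul a₁ a₀ = sig mul a₀ a₁ + (1 / 32 : ℝ) • (a₀ + a₁) := by
    rw [hA.comm]; exact p01
  have p12 : mul a₁ (μ₁ a₀) = sig mul a₀ a₁ + (1 / 32 : ℝ) • (μ₁ a₀ + a₁) := by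
    have := congrArg μ₁ p10
    rw [h₁.map_mul, h₁.fix] at this
    rw [this]
    simp only [map_add, map_smul, hσ1, h₁.fix]
  have p0m1 : mul a₀ (μ₀ a₁) = sig mul a₀ a₁ + (1 / 32 : ℝ) • (a₀ + μ₀ a₁) := by
    have := congrArg μ₀ p01
    rw [h₀.map_mul, h₀.fix] at this
    rw [this]
    simp only [map_add, map_smul, hσ0, h₀.fix]
  refine ⟨?_, ?_, ?_, ?_⟩
  · -- (X0, a0) = (a0 * a1, a_{-1})
    have : B (mul a₁ (μ₀ a₁)) a₀ = B (mul a₀ a₁) (μ₀ a₁) := by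
      rw [hA.symm, hA.assoc]
    rw [this, p01]
    simp only [map_add, map_smul, LinearMap.add_apply, LinearMap.smul_apply, smul_eq_mul, sm1, t5, t2]
    ring
  · -- (X0, a2) = (a2 * a1, a_{-1})
    have : B (mul a₁ (μ₀ a₁)) (μ₁ a₀) = B (mul a₁ (μ₁ a₀)) (μ₀ a₁) := by
      rw [hA.symm, hA.assoc, hA.comm]
    rw [this, p12]
    simp only [map_add, map_smul, LinearMap.add_apply, LinearMap.smul_apply, smul_eq_mul, sm1, t10, t2]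
    ring
  · -- (X1, a1) = (a1 * a0, a2)
    have : B (mul a₀ (μ₁ a₀)) a₁ = B (mul a₁ a₀) (μ₁ a₀) := by
      rw [hA.symm, hA.assoc]
    rw [this, p10]
    simp only [map_add, map_smul, LinearMap.add_apply, LinearMap.smul_apply, smul_eq_mul, s2, t7, ← hm]
    ring
  · -- (X1, a_{-1}) = (a_{-1} * a0, a2)
    have : B (mul a₀ (μ₁ a₀)) (μ₀ a₁) = B (mul a₀ (μ₀ a₁)) (μ₁ a₀) := by
      rw [hA.symm, hA.assoc, hA.comm]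
    rw [this, p0m1]
    simp only [map_add, map_smul, LinearMap.add_apply, LinearMap.smul_apply, smul_eq_mul, s2, t9, ← hm]
    ring

end Cfsg.Agent.Lib.H10.Sak
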