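import Mathlib
import Cfsg.Prelude.Def_AxialAlgebras
import Cfsg.Agent.Lib.H10.Sak.Defs
import Cfsg.Agent.Lib.H10.Sak.Pair
import Cfsg.Agent.Lib.H10.Sak.StepB
import Cfsg.Agent.Lib.H10.Sak.Lam
import Cfsg.Agent.Lib.H10.Sak.Inner

/-!
# S5544 piece P6b: the inner products `(X_0,X_1)` and `(S_o,S_e)`
-/

set_option autoImplicit false

namespace Cfsg.Agent.Lib.H10.Sak

open Cfsg Cfsg.Axial

variable {V : Type*} [AddCommGroup V] [Module ℝ V]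
variable {mul : V →ₗ[ℝ] V →ₗ[ℝ] V} {B : LinearMap.BilinForm ℝ V}


/-- `(X_0,X_1)` via (B1) -/
theorem B_X0_X1 (hA : Amb mul B) {μ₀ μ₁ : V ≃ₗ[ℝ] V} {a₀ a₁ : V} (h₀ : MAxis mul B μ₀ a₀)
    (h₁ : MAxis mul B μ₁ a₁) (l m : ℝ) (hl : l = B a₀ a₁) (hm : m = B a₀ (μ₁ a₀)) :
    B (mul a₁ (μ₀ a₁)) (mul a₀ (μ₁ a₀)) =
      (7 / 192 : ℝ) * (2 * m - (1 - kval l m) / 32) + (l / 6 - 1 / 192) * (l + nval l m)
        + (-1 / 24 - m / 24 + 5 * l / 3 - 32 * l ^ 2 / 3) * m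
        + (32 * l / 3 - 1 / 3) * ((31 * l - 1) / 32) := by
  obtain ⟨hB1, -⟩ := stepB hA h₀ h₁ l m hl hm
  obtain ⟨hn, -, -, -⟩ := lam_vals hA h₀ h₁ l m hl hm
  have hk := B_a2_am2 hA h₀ h₁ l m hl hm
  -- rewrite the left side
  have e1 : B (mul a₁ (μ₀ a₁)) (mul a₀ (μ₁ a₀)) = B (mul a₀ (mul a₁ (μ₀ a₁))) (μ₁ a₀) := by
    rw [hA.assoc, hA.comm (mul a₁ (μ₀ a₁)) a₀]
  -- a₂ idempotent of norm one
  have hid2 : mul (μ₁ a₀) (μ₁ a₀) = μ₁ a₀ := by rw [← h₁.map_mul, h₀.idem]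
  have hn2 : B (μ₁ a₀) (μ₁ a₀) = 1 := by rw [h₁.map_B, h₀.norm]
  -- (a₀ a₂, a₂) = m
  have hX1a2 : B (mul a₀ (μ₁ a₀)) (μ₁ a₀) = m := by
    rw [← hA.assoc, hid2, hm]
  -- Se is fixed by μ₀
  have hSe : μ₀ (sig mul a₀ (μ₁ a₀)) = sig mul a₀ (μ₁ a₀) := sig_inv h₀ _
  have hSe' : mul a₀ (μ₀ (μ₁ a₀)) =
      mul a₀ (μ₁ a₀) + (1 / 32 : ℝ) • (μ₀ (μ₁ a₀) - μ₁ a₀) := by
    have := hSe
    unfold sig at this
    rw [map_sub, h₀.map_mul, h₀.fix, map_smul, map_add, h₀.fix] at this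
    linear_combination (norm := module) this
  -- (u, a₂)
  have h1 : B a₁ (μ₁ a₀) = l := by
    have : B (μ₁ a₁) (μ₁ a₀) = B a₁ a₀ := h₁.map_B _ _
    rw [h₁.fix] at this
    rw [this, hA.symm, hl]
  have h2 : B (μ₀ a₁) (μ₁ a₀) = nval l m := by
    have : B (μ₁ (μ₀ a₁)) (μ₁ (μ₁ a₀)) = B (μ₀ a₁) (μ₁ a₀) := h₁.map_B _ _
    rw [h₁.invol] at this
    rw [← this, hA.symm, hn]
  -- (σ, a₂)
  have h3 : B (sig mul a₀ a₁) (μ₁ a₀) = (31 * l - 1) / 32 := by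
    have hs : μ₁ (sig mul a₀ a₁) = sig mul a₀ a₁ := by
      rw [sig_comm hA a₀ a₁]; exact sig_inv h₁ _
    have : B (μ₁ (sig mul a₀ a₁)) (μ₁ a₀) = B (sig mul a₀ a₁) a₀ := h₁.map_B _ _
    rw [hs] at this
    rw [this, hA.symm, B_sig hA h₀, hl]
  rw [e1, hB1]
  simp only [map_add, map_smul, LinearMap.add_apply,
    LinearMap.smul_apply, smul_eq_mul]
  rw [hSe']
  simp only [map_add, map_sub, map_smul, LinearMap.add_apply, LinearMap.sub_apply,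
    LinearMap.smul_apply, smul_eq_mul]
  rw [hX1a2, h1, h2, h3, hn2, hA.symm (μ₀ (μ₁ a₀)) (μ₁ a₀), hk, ← hm]
  ring

/-- `(S_o,S_e)` -/
theorem B_So_Se (hA : Amb mul B) {μ₀ μ₁ : V ≃ₗ[ℝ] V} {a₀ a₁ : V} (h₀ : MAxis mul B μ₀ a₀)
    (h₁ : MAxis mul B μ₁ a₁) (l m : ℝ) (hl : l = B a₀ a₁) (hm : m = B a₀ (μ₁ a₀)) :
    B (sig mul a₁ (μ₀ a₁)) (sig mul a₀ (μ₁ a₀)) =
      ((7 / 192 : ℝ) * (2 * m - (1 - kval l m) / 32) + (l / 6 - 1 / 192) * (l + nval l m)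
        + (-1 / 24 - m / 24 + 5 * l / 3 - 32 * l ^ 2 / 3) * m
        + (32 * l / 3 - 1 / 3) * ((31 * l - 1) / 32))
      - (1 / 32 : ℝ) * (2 * ((32 * l - 1 + m) / 32) + 2 * ((31 * l - 1) / 32 + (m + nval l m) / 32))
      + (3 * l + nval l m) / 1024 := by
  have hXX := B_X0_X1 hA h₀ h₁ l m hl hm
  obtain ⟨hx1, hx2, hx3, hx4⟩ := B_X_a hA h₀ h₁ l m hl hm
  obtain ⟨hn, -, -, -⟩ := lam_vals hA h₀ h₁ l m hl hm
  have h1 : B a₁ (μ₁ a₀) = l := by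
    have : B (μ₁ a₁) (μ₁ a₀) = B a₁ a₀ := h₁.map_B _ _
    rw [h₁.fix] at this
    rw [this, hA.symm, hl]
  have h2 : B (μ₀ a₁) (μ₁ a₀) = nval l m := by
    have : B (μ₁ (μ₀ a₁)) (μ₁ (μ₁ a₀)) = B (μ₀ a₁) (μ₁ a₀) := h₁.map_B _ _
    rw [h₁.invol] at this
    rw [← this, hA.symm, hn]
  have h3 : B (μ₀ a₁) a₀ = l := by
    have : B (μ₀ a₁) (μ₀ a₀) = B a₁ a₀ := h₀.map_B _ _
    rw [h₀.fix] at this
    rw [this, hA.symm, hl]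
  have h4 : B a₁ a₀ = l := by rw [hA.symm, hl]
  have h5 : B a₁ (mul a₀ (μ₁ a₀)) = (32 * l - 1 + m) / 32 := by rw [hA.symm, hx3]
  have h6 : B (μ₀ a₁) (mul a₀ (μ₁ a₀)) = (31 * l - 1) / 32 + (m + nval l m) / 32 := by
    rw [hA.symm, hx4]
  unfold sig
  simp only [map_add, map_sub, map_smul, LinearMap.add_apply, LinearMap.sub_apply,
    LinearMap.smul_apply, smul_eq_mul]
  rw [hXX, hx1, hx2, h5, h6, h1, h2, h3, h4]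
  ring

end Cfsg.Agent.Lib.H10.Sak
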