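import Mathlib
import Cfsg.Prelude.Def_AxialAlgebras
import Cfsg.Agent.Lib.H10.Sak.Defs
import Cfsg.Agent.Lib.H10.Sak.R1
import Cfsg.Agent.Lib.H10.Sak.Lam
import Cfsg.Agent.Lib.H10.Sak.Inner
import Cfsg.Agent.Lib.H10.Sak.InnerX

/-! # S5544 (Sakuma), piece P6c: the relation F1 = 0 -/

set_option autoImplicit false

namespace Cfsg.Agent.Lib.H10.Sak

open Cfsg Cfsg.Axial

variable {V : Type*} [AddCommGroup V] [Module ℝ V]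
variable {mul : V →ₗ[ℝ] V →ₗ[ℝ] V} {B : LinearMap.BilinForm ℝ V}

/-- `(W,W)` via R1 -/
theorem B_Wv_Wv_R1 (hA : Amb mul B) {μ₀ μ₁ : V ≃ₗ[ℝ] V} {a₀ a₁ : V} (h₀ : MAxis mul B μ₀ a₀)
    (h₁ : MAxis mul B μ₁ a₁) (l m : ℝ) (hl : l = B a₀ a₁) (hm : m = B a₀ (μ₁ a₀)) :
    B (Wv mul μ₀ μ₁ a₀ a₁) (Wv mul μ₀ μ₁ a₀ a₁) = 60 * (m - l) * (1 + pC l + qC l m) := by
  have hR := R1 hA h₀ h₁ l m hl hm
  have hi0 := Wv_inv0 hA h₀ h₁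
  have hi1 := Wv_inv1 hA h₀ h₁
  have hw0 := B_a0_Wv hA h₀ h₁ l m hl hm
  have hw1 := B_a1_Wv hA h₀ h₁ l m hl hm
  generalize Wv mul μ₀ μ₁ a₀ a₁ = W at hR hi0 hi1 hw0 hw1 ⊢
  have i0 : ∀ x : V, B W (μ₀ x) = B W x := fun x => by
    have h : B W (μ₀ x) = B (μ₀ W) (μ₀ x) := by rw [hi0]
    rw [h, h₀.map_B]
  have i1 : ∀ x : V, B W (μ₁ x) = B W x := fun x => by
    have h : B W (μ₁ x) = B (μ₁ W) (μ₁ x) := by rw [hi1]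
    rw [h, h₁.map_B]
  have w0 : B W a₀ = -30 * (m - l) := by rw [hA.symm]; exact hw0
  have w1 : B W a₁ = 30 * (m - l) := by rw [hA.symm]; exact hw1
  have hWeq : W = μ₁ (μ₀ a₁) - μ₀ (μ₁ a₀) - pC l • (μ₁ a₀ - μ₀ a₁) - qC l m • (a₀ - a₁) := by
    rw [hR]; module
  have h := congrArg (B W) hWeq
  rw [h]
  simp only [map_sub, map_smul, smul_eq_mul, i0, i1, w0, w1]
  ring

theorem F1_zero (hA : Amb mul B) {μ₀ μ₁ : V ≃ₗ[ℝ] V} {a₀ a₁ : V} (h₀ : MAxis mul B μ₀ a₀)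
    (h₁ : MAxis mul B μ₁ a₁) (l m : ℝ) (hl : l = B a₀ a₁) (hm : m = B a₀ (μ₁ a₀)) :
    F1 l m = 0 := by
  have h1 := B_Wv_Wv_R1 hA h₀ h₁ l m hl hm
  have hoo := B_So_So hA h₀ h₁ l m hl hm
  have hee := B_Se_Se hA h₀ h₁ l m hl hm
  have hoe := B_So_Se hA h₀ h₁ l m hl hm
  have heo : B (sig mul a₀ (μ₁ a₀)) (sig mul a₁ (μ₀ a₁)) =
      B (sig mul a₁ (μ₀ a₁)) (sig mul a₀ (μ₁ a₀)) := hA.symm _ _
  have h2 : B (Wv mul μ₀ μ₁ a₀ a₁) (Wv mul μ₀ μ₁ a₀ a₁) =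
      1024 * (B (sig mul a₁ (μ₀ a₁)) (sig mul a₁ (μ₀ a₁))
        - 2 * B (sig mul a₁ (μ₀ a₁)) (sig mul a₀ (μ₁ a₀))
        + B (sig mul a₀ (μ₁ a₀)) (sig mul a₀ (μ₁ a₀))) := by
    unfold Wv
    simp only [map_sub, map_smul, LinearMap.sub_apply, LinearMap.smul_apply, smul_eq_mul, heo]
    ring
  rw [h1, hoo, hee, hoe] at h2
  unfold kval nval qC pC at h2
  unfold F1
  linear_combination (-7 / 24 : ℝ) * h2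

end Cfsg.Agent.Lib.H10.Sak
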