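import Mathlib
import Cfsg.Prelude.Def_AxialAlgebras
import Cfsg.Agent.Lib.H10.Sak.Defs
import Cfsg.Agent.Lib.H10.Sak.Axis

/-!
# S5544 piece P8: a coincidence `a_N = a_0` forces `(mu0 mu1)^N = 1`
-/

set_option autoImplicit false

namespace Cfsg.Agent.Lib.H10.Sak

open Cfsg Cfsg.Axial

variable {V : Type*} [AddCommGroup V] [Module ℝ V]
variable {mul : V →ₗ[ℝ] V →ₗ[ℝ] V} {B : LinearMap.BilinForm ℝ V}


/-- a unit vector with inner product one against the unit vector `a` is `a` -/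
theorem order_aux_eq (hA : Amb mul B) (hpos : ∀ u : V, u ≠ 0 → 0 < B u u) {a x : V}
    (ha : B a a = 1) (hx : B x x = 1) (hax : B a x = 1) : x = a := by
  by_contra hne
  have hne' : a - x ≠ 0 := fun h0 => hne (sub_eq_zero.mp h0).symm
  have h1 := hpos _ hne'
  have h2 : B (a - x) (a - x) = 0 := by
    simp only [map_sub, LinearMap.sub_apply]
    rw [hA.symm x a, ha, hx, hax]; ring
  linarith

/-- the conjugate of an axis by an automorphism `g` with `g a = a₀` has the involution of `a₀` -/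
theorem order_aux_conj (hA : Amb mul B) {μ₀ μ : V ≃ₗ[ℝ] V} {a₀ a : V} (h₀ : MAxis mul B μ₀ a₀)
    (h : MAxis mul B μ a) (g : V ≃ₗ[ℝ] V) (hgm : ∀ u v : V, g (mul u v) = mul (g u) (g v))
    (hgB : ∀ u v : V, B (g u) (g v) = B u v) (hga : g a = a₀) : g * μ * g⁻¹ = μ₀ := by
  have h1 := MAxis.conj hA h g hgm hgB
  rw [hga] at h1
  exact MAxis.inv_unique h1 h₀

theorem order_of_coincidence (hA : Amb mul B) (hpos : ∀ u : V, u ≠ 0 → 0 < B u u)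
    {μ₀ μ₁ : V ≃ₗ[ℝ] V} {a₀ a₁ : V} (h₀ : MAxis mul B μ₀ a₀) (h₁ : MAxis mul B μ₁ a₁)
    (h : B a₀ a₁ = 1 ∨ B a₀ (μ₁ a₀) = 1 ∨ B a₀ (μ₁ (μ₀ a₁)) = 1 ∨
      B a₀ (μ₁ (μ₀ (μ₁ a₀))) = 1 ∨ B a₀ (μ₁ (μ₀ (μ₁ (μ₀ a₁)))) = 1 ∨
      B a₀ (μ₁ (μ₀ (μ₁ (μ₀ (μ₁ a₀))))) = 1) :
    ∃ n : ℕ, 1 ≤ n ∧ n ≤ 6 ∧ (μ₀ * μ₁) ^ n = 1 := by
  have hs : μ₀ * μ₀ = 1 := by
    apply LinearEquiv.ext; intro x
    rw [LinearEquiv.mul_apply, h₀.invol]; rfl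
  have ht : μ₁ * μ₁ = 1 := by
    apply LinearEquiv.ext; intro x
    rw [LinearEquiv.mul_apply, h₁.invol]; rfl
  have hsi : μ₀⁻¹ = μ₀ := inv_eq_of_mul_eq_one_right hs
  have hti : μ₁⁻¹ = μ₁ := inv_eq_of_mul_eq_one_right ht
  rcases h with h | h | h | h | h | h
  · -- n = 1
    have e : a₁ = a₀ := order_aux_eq hA hpos h₀.norm h₁.norm h
    have hk : μ₁ = μ₀ := by
      rw [e] at h₁
      exact MAxis.inv_unique h₁ h₀
    refine ⟨1, le_refl _, by norm_num, ?_⟩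
    rw [pow_one, hk, hs]
  · -- n = 2
    have e : μ₁ a₀ = a₀ :=
      order_aux_eq hA hpos h₀.norm (by rw [h₁.map_B, h₀.norm]) h
    have hk := order_aux_conj hA h₀ h₀ μ₁ h₁.map_mul h₁.map_B e
    rw [hti] at hk
    refine ⟨2, by norm_num, by norm_num, ?_⟩
    have : (μ₀ * μ₁) ^ 2 = μ₀ * (μ₁ * μ₀ * μ₁) := by
      simp only [pow_succ, pow_zero, one_mul, mul_assoc]
    rw [this, hk, hs]
  · -- n = 3
    have hgm : ∀ u v : V, (μ₁ * μ₀) (mul u v) = mul ((μ₁ * μ₀) u) ((μ₁ * μ₀) v) := by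
      intro u v; simp only [LinearEquiv.mul_apply, h₀.map_mul, h₁.map_mul]
    have hgB : ∀ u v : V, B ((μ₁ * μ₀) u) ((μ₁ * μ₀) v) = B u v := by
      intro u v; simp only [LinearEquiv.mul_apply, h₀.map_B, h₁.map_B]
    have e : (μ₁ * μ₀) a₁ = a₀ :=
      order_aux_eq hA hpos h₀.norm (by rw [hgB, h₁.norm]) h
    have hk := order_aux_conj hA h₀ h₁ (μ₁ * μ₀) hgm hgB e
    simp only [mul_inv_rev, hsi, hti] at hk
    refine ⟨3, by norm_num, by norm_num, ?_⟩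
    have : (μ₀ * μ₁) ^ 3 = μ₀ * (μ₁ * μ₀ * μ₁ * (μ₀ * μ₁)) := by
      simp only [pow_succ, pow_zero, one_mul, mul_assoc]
    rw [this, hk, hs]
  · -- n = 4
    have hgm : ∀ u v : V,
        (μ₁ * μ₀ * μ₁) (mul u v) = mul ((μ₁ * μ₀ * μ₁) u) ((μ₁ * μ₀ * μ₁) v) := by
      intro u v; simp only [LinearEquiv.mul_apply, h₀.map_mul, h₁.map_mul]
    have hgB : ∀ u v : V, B ((μ₁ * μ₀ * μ₁) u) ((μ₁ * μ₀ * μ₁) v) = B u v := by
      intro u v; simp only [LinearEquiv.mul_apply, h₀.map_B, h₁.map_B]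
    have e : (μ₁ * μ₀ * μ₁) a₀ = a₀ :=
      order_aux_eq hA hpos h₀.norm (by rw [hgB, h₀.norm]) h
    have hk := order_aux_conj hA h₀ h₀ (μ₁ * μ₀ * μ₁) hgm hgB e
    simp only [mul_inv_rev, hsi, hti] at hk
    refine ⟨4, by norm_num, by norm_num, ?_⟩
    have : (μ₀ * μ₁) ^ 4 = μ₀ * (μ₁ * μ₀ * μ₁ * μ₀ * (μ₁ * (μ₀ * μ₁))) := by
      simp only [pow_succ, pow_zero, one_mul, mul_assoc]
    rw [this, hk, hs]
  · -- n = 5
    have hgm : ∀ u v : V, (μ₁ * μ₀ * μ₁ * μ₀) (mul u v) =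
        mul ((μ₁ * μ₀ * μ₁ * μ₀) u) ((μ₁ * μ₀ * μ₁ * μ₀) v) := by
      intro u v; simp only [LinearEquiv.mul_apply, h₀.map_mul, h₁.map_mul]
    have hgB : ∀ u v : V, B ((μ₁ * μ₀ * μ₁ * μ₀) u) ((μ₁ * μ₀ * μ₁ * μ₀) v) = B u v := by
      intro u v; simp only [LinearEquiv.mul_apply, h₀.map_B, h₁.map_B]
    have e : (μ₁ * μ₀ * μ₁ * μ₀) a₁ = a₀ :=
      order_aux_eq hA hpos h₀.norm (by rw [hgB, h₁.norm]) h
    have hk := order_aux_conj hA h₀ h₁ (μ₁ * μ₀ * μ₁ * μ₀) hgm hgB e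
    simp only [mul_inv_rev, hsi, hti] at hk
    refine ⟨5, by norm_num, by norm_num, ?_⟩
    have : (μ₀ * μ₁) ^ 5 =
        μ₀ * (μ₁ * μ₀ * μ₁ * μ₀ * μ₁ * (μ₀ * (μ₁ * (μ₀ * μ₁)))) := by
      simp only [pow_succ, pow_zero, one_mul, mul_assoc]
    rw [this, hk, hs]
  · -- n = 6
    have hgm : ∀ u v : V, (μ₁ * μ₀ * μ₁ * μ₀ * μ₁) (mul u v) =
        mul ((μ₁ * μ₀ * μ₁ * μ₀ * μ₁) u) ((μ₁ * μ₀ * μ₁ * μ₀ * μ₁) v) := by
      intro u v; simp only [LinearEquiv.mul_apply, h₀.map_mul, h₁.map_mul]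
    have hgB : ∀ u v : V,
        B ((μ₁ * μ₀ * μ₁ * μ₀ * μ₁) u) ((μ₁ * μ₀ * μ₁ * μ₀ * μ₁) v) = B u v := by
      intro u v; simp only [LinearEquiv.mul_apply, h₀.map_B, h₁.map_B]
    have e : (μ₁ * μ₀ * μ₁ * μ₀ * μ₁) a₀ = a₀ :=
      order_aux_eq hA hpos h₀.norm (by rw [hgB, h₀.norm]) h
    have hk := order_aux_conj hA h₀ h₀ (μ₁ * μ₀ * μ₁ * μ₀ * μ₁) hgm hgB e
    simp only [mul_inv_rev, hsi, hti] at hk
    refine ⟨6, by norm_num, by norm_num, ?_⟩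
    have : (μ₀ * μ₁) ^ 6 =
        μ₀ * (μ₁ * μ₀ * μ₁ * μ₀ * μ₁ * μ₀ * (μ₁ * (μ₀ * (μ₁ * (μ₀ * μ₁))))) := by
      simp only [pow_succ, pow_zero, one_mul, mul_assoc]
    rw [this, hk, hs]

end Cfsg.Agent.Lib.H10.Sak
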