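import Mathlib
import Cfsg.Agent.Lib.H10.Sak.Defs

/-! # Sakuma (S5544), part C: the real-arithmetic endgame -/

set_option autoImplicit false

namespace Cfsg.Agent.Lib.H10.Sak

/-- first elimination: `E3 - (c₂/128) F1 = (15/49)(2048 l - 43)(h₁ m + h₀)` -/
theorem partC_I1 (l m : ℝ) (hF : F1 l m = 0) (hE : lam6 l m = nval m (kval l m)) :
    (2048 * l - 43) *
      ((195 + 25408 * l - 2408448 * l ^ 2 - 1048576 * l ^ 3) * m
        + (-195 + 19648 * l - 356352 * l ^ 2 - 10911744 * l ^ 3 + 283115520 * l ^ 4
            - 268435456 * l ^ 5)) = 0 := by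
  unfold lam6 lam5 kval nval qC pC at hE
  unfold F1 at hF
  linear_combination (49 / 15 : ℝ) * hE
    - (49 / 15 : ℝ) * ((-301440 / 49 + 1228800 / 49 * l + 100663296 / 7 * l ^ 2) / 128) * hF

/-- second elimination (resultant) -/
theorem partC_I2 (l m : ℝ) (hF : F1 l m = 0)
    (hB : (195 + 25408 * l - 2408448 * l ^ 2 - 1048576 * l ^ 3) * m
        + (-195 + 19648 * l - 356352 * l ^ 2 - 10911744 * l ^ 3 + 283115520 * l ^ 4
            - 268435456 * l ^ 5) = 0) :
    l * (l - 1) * (l - 1 / 8) * (l - 13 / 256) * (l - 1 / 64) * (l - 1 / 64) * (l - 1 / 32)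
      * (l - 3 / 128) * (l - 5 / 256) = 0 := by
  unfold F1 at hF
  have h : (-28246576862867750912 : ℝ) * (l * (l - 1) * (l - 1 / 8) * (l - 13 / 256) * (l - 1 / 64)
      * (l - 1 / 64) * (l - 1 / 32) * (l - 3 / 128) * (l - 5 / 256)) = 0 := by
    linear_combination
      (195 + 25408 * l - 2408448 * l ^ 2 - 1048576 * l ^ 3) ^ 2 * hF
      - (128 * ((195 + 25408 * l - 2408448 * l ^ 2 - 1048576 * l ^ 3) * m
          - (-195 + 19648 * l - 356352 * l ^ 2 - 10911744 * l ^ 3 + 283115520 * l ^ 4
            - 268435456 * l ^ 5))
        + (40960 * l ^ 2 + 8896 * l - 167)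
          * (195 + 25408 * l - 2408448 * l ^ 2 - 1048576 * l ^ 3)) * hB
  rcases mul_eq_zero.mp h with h | h
  · norm_num at h
  · exact h

/-- the exceptional value `l = 43/2048` contradicts `0 ≤ kval` -/
theorem partC_exc (m : ℝ) (hF : F1 (43 / 2048) m = 0) (hk : 0 ≤ kval (43 / 2048) m) : False := by
  unfold kval nval qC pC at hk
  unfold F1 at hF
  have h1 : (0 : ℝ) ≤ 105285 / 3584 * m - 68619019 / 58720256 := by
    nlinarith [hF, hk]
  have h2 : (39 / 1000 : ℝ) ≤ m := by linarith
  nlinarith [hF, h2, mul_nonneg (sub_nonneg.mpr h2) (sub_nonneg.mpr h2)]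

theorem partC (l m : ℝ) (hF : F1 l m = 0) (hE : lam6 l m = nval m (kval l m))
    (hk : 0 ≤ kval l m) :
    l = 1 ∨ m = 1 ∨ nval l m = 1 ∨ kval l m = 1 ∨ lam5 l m = 1 ∨ lam6 l m = 1 := by
  rcases mul_eq_zero.mp (partC_I1 l m hF hE) with h43 | hB
  · exfalso
    have hl : l = 43 / 2048 := by linarith
    subst hl
    exact partC_exc m hF hk
  · have hprod := partC_I2 l m hF hB
    simp only [mul_eq_zero, sub_eq_zero] at hprod
    rcases hprod with ((((((((h | h) | h) | h) | h) | h) | h) | h) | h)
    · -- l = 0
      subst h
      right; left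
      norm_num at hB
      linarith
    · left; exact h
    · -- l = 1/8
      subst h
      right; left
      norm_num at hB
      linarith
    · -- l = 13/256 : 3A
      subst h
      have hm : m = 13 / 256 := by
        norm_num at hB
        linarith
      subst hm
      right; right; left
      norm_num [nval, qC, pC]
    · -- l = 1/64 : 3C or 4B
      subst h
      unfold F1 at hF
      have h2 : (64 * m - 1) * (8 * m - 1) = 0 := by linear_combination 4 * hF
      rcases mul_eq_zero.mp h2 with h3 | h3
      · have hm : m = 1 / 64 := by linarith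
        subst hm
        right; right; left
        norm_num [nval, qC, pC]
      · have hm : m = 1 / 8 := by linarith
        subst hm
        right; right; right; left
        norm_num [kval, nval, qC, pC]
    · subst h
      unfold F1 at hF
      have h2 : (64 * m - 1) * (8 * m - 1) = 0 := by linear_combination 4 * hF
      rcases mul_eq_zero.mp h2 with h3 | h3
      · have hm : m = 1 / 64 := by linarith
        subst hm
        right; right; left
        norm_num [nval, qC, pC]
      · have hm : m = 1 / 8 := by linarith
        subst hm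
        right; right; right; left
        norm_num [kval, nval, qC, pC]
    · -- l = 1/32 : 4A
      subst h
      have hm : m = 0 := by
        norm_num at hB
        linarith
      subst hm
      right; right; right; left
      norm_num [kval, nval, qC, pC]
    · -- l = 3/128 : 5A
      subst h
      have hm : m = 3 / 128 := by
        norm_num at hB
        linarith
      subst hm
      right; right; right; right; left
      norm_num [lam5, kval, nval, qC, pC]
    · -- l = 5/256 : 6A
      subst h
      have hm : m = 13 / 256 := by
        norm_num at hB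
        linarith
      subst hm
      right; right; right; right; right
      norm_num [lam6, lam5, kval, nval, qC, pC]

end Cfsg.Agent.Lib.H10.Sak
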