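import Mathlib
import Cfsg.Prelude.Def_AxialAlgebras
import Cfsg.Agent.Lib.H10.Sak.Defs
import Cfsg.Agent.Lib.H10.Sak.Axis
import Cfsg.Agent.Lib.H10.Sak.Lam
import Cfsg.Agent.Lib.H10.Sak.F1
import Cfsg.Agent.Lib.H10.Sak.Poly
import Cfsg.Agent.Lib.H10.Sak.Order

/-! # S5544 (Sakuma): assembly -/

set_option autoImplicit false

namespace Cfsg.Agent.Lib.H10.Sak

open Cfsg Cfsg.Axial

variable {V : Type*} [AddCommGroup V] [Module ℝ V]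
variable {mul : V →ₗ[ℝ] V →ₗ[ℝ] V} {B : LinearMap.BilinForm ℝ V}

/-- Sakuma's theorem for Majorana involutions -/
theorem sakuma (hV : IsMajoranaAmbient mul B) (μ₀ μ₁ : V ≃ₗ[ℝ] V) (a₀ a₁ : V)
    (h₀ : IsMajoranaPair mul B μ₀ a₀) (h₁ : IsMajoranaPair mul B μ₁ a₁)
    (hn₀ : B a₀ a₀ = 1) (hn₁ : B a₁ a₁ = 1) :
    ∃ n : ℕ, 1 ≤ n ∧ n ≤ 6 ∧ (μ₀ * μ₁) ^ n = 1 := by
  have hA : Amb mul B := Amb.of_ambient hV
  have H₀ := MAxis.of_pair hV h₀ hn₀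
  have H₁ := MAxis.of_pair hV h₁ hn₁
  obtain ⟨-, -, hpos, -, hnorton⟩ := hV
  set l := B a₀ a₁ with hl
  set m := B a₀ (μ₁ a₀) with hm
  obtain ⟨e3, e4, e5, e6⟩ := lam_vals hA H₀ H₁ l m hl hm
  have hF := F1_zero hA H₀ H₁ l m hl hm
  -- the pair (a₀, a₂)
  have H₂ : MAxis mul B (μ₁ * μ₀ * μ₁⁻¹) (μ₁ a₀) := MAxis.conj hA H₀ μ₁ H₁.map_mul H₁.map_B
  have hinv : ∀ x : V, μ₁⁻¹ x = μ₁ x := by
    intro x
    have : μ₁⁻¹ x = μ₁.symm x := rfl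
    rw [this, LinearEquiv.symm_apply_eq, H₁.invol]
  obtain ⟨e3', -⟩ := lam_vals hA H₀ H₂ m (kval l m) hm (by
    rw [← e4]
    change B a₀ (μ₁ (μ₀ (μ₁ a₀))) = B a₀ (μ₁ (μ₀ (μ₁⁻¹ a₀)))
    rw [hinv])
  have hE : lam6 l m = nval m (kval l m) := by
    rw [← e6, ← e3']
    change B a₀ (μ₁ (μ₀ (μ₁ (μ₀ (μ₁ a₀))))) = B a₀ (μ₁ (μ₀ (μ₁⁻¹ (μ₀ (μ₁ a₀)))))
    rw [hinv]
  -- Norton: 0 ≤ (a₀, a₄)
  have hk : 0 ≤ kval l m := by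
    rw [← e4]
    set a₄ := μ₁ (μ₀ (μ₁ a₀)) with ha₄
    have hid4 : mul a₄ a₄ = a₄ := by
      rw [ha₄, ← H₁.map_mul, ← H₀.map_mul, ← H₁.map_mul, H₀.idem]
    have h1 := hnorton a₀ a₄
    rw [H₀.idem, hid4] at h1
    have h2 : 0 ≤ B (mul a₀ a₄) (mul a₀ a₄) := by
      by_cases hz : mul a₀ a₄ = 0
      · rw [hz]; simp
      · exact (hpos _ hz).le
    linarith
  have hC := partC l m hF hE hk
  apply order_of_coincidence hA hpos H₀ H₁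
  rw [e3, e4, e5, e6]
  exact hC

end Cfsg.Agent.Lib.H10.Sak
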